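import Groth.Agent.L08.GQuot.Basic
import Mathlib.AlgebraicGeometry.Gluing
import Mathlib.AlgebraicGeometry.ColimitsOver

/-!
# Gluing fppf quotients of saturated opens
-/

set_option autoImplicit false
set_option backward.isDefEq.respectTransparency.types false

universe u

open CategoryTheory CategoryTheory.Limits AlgebraicGeometry TopologicalSpace

noncomputable section

namespace Groth.L08.GQuot

variable {U R : Scheme.{u}} (t s : R ⟶ U)

/-- Saturated opens having a quotient. -/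
abbrev Piece : Type u :=
  {W : U.Opens // Sat t s W ∧ ∃ (Y : Scheme.{u}) (p : W.toScheme ⟶ Y), IsQ t s W p}

variable {t s}

/-- A chosen quotient. -/
def pobj (W : Piece t s) : Scheme.{u} := W.2.2.choose

/-- Its quotient map. -/
def pmap (W : Piece t s) : W.1.toScheme ⟶ pobj W := W.2.2.choose_spec.choose

theorem isQ_pmap (W : Piece t s) : IsQ t s W.1 (pmap W) := W.2.2.choose_spec.choose_spec

theorem exists_trans {W' W : Piece t s} (h : W' ≤ W) :
    ∃ m : pobj W' ⟶ pobj W, pmap W' ≫ m = U.homOfLE h ≫ pmap W ∧ IsOpenImmersion m := by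
  obtain ⟨q, hq, hQ⟩ := (isQ_pmap W).exists_restrict W'.2.1 h
  obtain ⟨e, he⟩ := (isQ_pmap W').exists_iso hQ
  exact ⟨e.hom ≫ (img (isQ_pmap W) W'.1).ι, by rw [reassoc_of% he, hq], inferInstance⟩

/-- Transition map. -/
def ptrans {W' W : Piece t s} (h : W' ≤ W) : pobj W' ⟶ pobj W := (exists_trans h).choose

@[reassoc]
theorem pmap_trans {W' W : Piece t s} (h : W' ≤ W) :
    pmap W' ≫ ptrans h = U.homOfLE h ≫ pmap W := (exists_trans h).choose_spec.1

variable (t s) in
/-- The diagram of local quotients. -/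
def pFunctor : Piece t s ⥤ Scheme.{u} where
  obj := pobj
  map f := ptrans (leOfHom f)
  map_id W := (isQ_pmap W).hom_ext (by
    rw [pmap_trans, Scheme.homOfLE_rfl, Category.id_comp, Category.comp_id])
  map_comp {A B C} f g := (isQ_pmap A).hom_ext (by
    rw [pmap_trans, pmap_trans_assoc, pmap_trans, Scheme.homOfLE_homOfLE_assoc])

instance {i j : Piece t s} (f : i ⟶ j) : IsOpenImmersion ((pFunctor t s).map f) :=
  (exists_trans (leOfHom f)).choose_spec.2

theorem ptrans_apply {W' W : Piece t s} (h : W' ≤ W) (x : W'.1.toScheme) :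
    ptrans h (pmap W' x) = pmap W (U.homOfLE h x) := by
  rw [← Scheme.Hom.comp_apply, pmap_trans, Scheme.Hom.comp_apply]

/-- Intersection of two pieces. -/
def infPiece (A B : Piece t s) : Piece t s :=
  ⟨A.1 ⊓ B.1, A.2.1.inf B.2.1, _, ((isQ_pmap A).exists_restrict (A.2.1.inf B.2.1) inf_le_left).choose,
    ((isQ_pmap A).exists_restrict (A.2.1.inf B.2.1) inf_le_left).choose_spec.2⟩

theorem homOfLE_val {A B : U.Opens} (h : A ≤ B) (x : A.toScheme) : B.ι (U.homOfLE h x) = A.ι x := by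
  rw [← Scheme.Hom.comp_apply, Scheme.homOfLE_ι]

instance : (pFunctor t s ⋙ Scheme.forget).IsLocallyDirected := by
  constructor
  intro A B K fA fB xA xB h
  obtain ⟨a, rfl⟩ := (isQ_pmap A).surj.surj xA
  obtain ⟨b, rfl⟩ := (isQ_pmap B).surj.surj xB
  change ptrans (leOfHom fA) (pmap A a) = ptrans (leOfHom fB) (pmap B b) at h
  rw [ptrans_apply, ptrans_apply] at h
  obtain ⟨r, hr1, hr2⟩ := ((isQ_pmap K).apply_eq_iff _ _).1 h
  rw [homOfLE_val] at hr1 hr2
  have haB : A.1.ι a ∈ B.1 := hr1 ▸ (B.2.1.mem_iff r).2 (hr2 ▸ b.2)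
  let c : (infPiece A B).1.toScheme := ⟨A.1.ι a, a.2, haB⟩
  refine ⟨infPiece A B, homOfLE (inf_le_left : A.1 ⊓ B.1 ≤ A.1), homOfLE (inf_le_right : A.1 ⊓ B.1 ≤ B.1),
    pmap (infPiece A B) c, ?_, ?_⟩
  · show ptrans _ (pmap _ c) = pmap A a
    rw [ptrans_apply]
    congr 1
    exact A.1.ι.isOpenEmbedding.injective (homOfLE_val _ c)
  · show ptrans _ (pmap _ c) = pmap B b
    rw [ptrans_apply, (isQ_pmap B).apply_eq_iff]
    exact ⟨r, by rw [homOfLE_val]; exact hr1, hr2⟩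

variable (t s) in
/-- The glued quotient. -/
def pglued : Scheme.{u} := colimit (pFunctor t s)

/-- Inclusion of a local quotient. -/
def pι (W : Piece t s) : pobj W ⟶ pglued t s := colimit.ι (pFunctor t s) W

instance (W : Piece t s) : IsOpenImmersion (pι W) :=
  inferInstanceAs (IsOpenImmersion (colimit.ι (pFunctor t s) W))

theorem pι_w {A B : Piece t s} (h : A ≤ B) : ptrans h ≫ pι B = pι A :=
  colimit.w (pFunctor t s) (homOfLE h)

/-- Local quotients glue. -/
theorem exists_quotient (hc : ∀ x : U, ∃ W : Piece t s, x ∈ W.1)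
    (hmono : ∀ ⦃T : Scheme.{u}⦄ (r r' : T ⟶ R), r ≫ t = r' ≫ t → r ≫ s = r' ≫ s → r = r') :
    ∃ (Y : Scheme.{u}) (p : (⊤ : U.Opens).toScheme ⟶ Y), IsQ t s ⊤ p := by
  classical
  let Uc : Piece t s → U.Opens := fun W => W.1
  let cov : U.OpenCover := Scheme.openCoverOfIsOpenCover U Uc
    (eq_top_iff.2 fun x _ => Opens.mem_iSup.2 (hc x))
  have glue : ∃ g : U ⟶ pglued t s, ∀ W : Piece t s, W.1.ι ≫ g = pmap W ≫ pι W := by
    refine ⟨cov.glueMorphisms (fun W => pmap W ≫ pι W) fun A B => ?_,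
      fun W => Scheme.Cover.ι_glueMorphisms cov _ _ W⟩
    let q := pullback.fst A.1.ι B.1.ι ≫ A.1.ι
    have hr : Set.range q ⊆ Set.range (infPiece A B).1.ι := by
      rintro _ ⟨w, rfl⟩
      rw [Scheme.Opens.range_ι]
      refine ⟨(pullback.fst A.1.ι B.1.ι w).2, ?_⟩
      show (pullback.fst A.1.ι B.1.ι ≫ A.1.ι) w ∈ B.1
      rw [pullback.condition]
      exact (pullback.snd A.1.ι B.1.ι w).2
    let l := IsOpenImmersion.lift _ q hr
    have hA : infPiece A B ≤ A := (inf_le_left : A.1 ⊓ B.1 ≤ A.1)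
    have hB : infPiece A B ≤ B := (inf_le_right : A.1 ⊓ B.1 ≤ B.1)
    have h1 : l ≫ U.homOfLE hA = pullback.fst A.1.ι B.1.ι := by
      rw [← cancel_mono A.1.ι, Category.assoc, Scheme.homOfLE_ι, IsOpenImmersion.lift_fac]
    have h2 : l ≫ U.homOfLE hB = pullback.snd A.1.ι B.1.ι := by
      rw [← cancel_mono B.1.ι, Category.assoc, Scheme.homOfLE_ι, IsOpenImmersion.lift_fac]
      exact pullback.condition
    show pullback.fst A.1.ι B.1.ι ≫ pmap A ≫ pι A = pullback.snd A.1.ι B.1.ι ≫ pmap B ≫ pι B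
    rw [← h1, ← h2, Category.assoc, Category.assoc, ← pmap_trans_assoc hA, ← pmap_trans_assoc hB,
      pι_w, pι_w]
  obtain ⟨g, hg⟩ := glue
  have hval : ∀ (W : Piece t s) (x : W.1.toScheme), g (W.1.ι x) = pι W (pmap W x) := fun W x => by
    rw [← Scheme.Hom.comp_apply, hg, Scheme.Hom.comp_apply]
  have hpre : ∀ (W : Piece t s) (x : U), g x ∈ Set.range (pι W) → x ∈ W.1 := by
    rintro W x ⟨y, hy⟩
    obtain ⟨W', hxW'⟩ := hc x
    rw [show g x = pι W' (pmap W' ⟨x, hxW'⟩) from hval W' ⟨x, hxW'⟩] at hy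
    obtain ⟨K, fW, fW', z, -, hz'⟩ := Scheme.IsLocallyDirected.ι_eq_ι_iff (pFunctor t s) |>.1 hy
    obtain ⟨c, rfl⟩ := (isQ_pmap K).surj.surj z
    change ptrans (leOfHom fW') (pmap K c) = pmap W' ⟨x, hxW'⟩ at hz'
    rw [ptrans_apply] at hz'
    obtain ⟨r, hr1, hr2⟩ := ((isQ_pmap W').apply_eq_iff _ _).1 hz'
    rw [homOfLE_val] at hr1
    have : x = s r := hr2.symm
    exact leOfHom fW (this ▸ (K.2.1.mem_iff r).1 (hr1 ▸ c.2))
  have hpb : ∀ W : Piece t s, IsPullback (pmap W) W.1.ι (pι W) g := fun W =>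
    IsOpenImmersion.isPullback _ _ _ _ (hg W) (by
      ext x
      constructor
      · intro hx
        rw [Scheme.Opens.opensRange_ι]
        exact hpre W x hx
      · intro hx
        rw [Scheme.Opens.opensRange_ι] at hx
        exact ⟨_, (hval W ⟨x, hx⟩).symm⟩)
  have hP : ∀ (P : MorphismProperty Scheme.{u}) [IsZariskiLocalAtTarget P],
      (∀ W : Piece t s, P (pmap W)) → P g := by
    intro P _ h
    refine IsZariskiLocalAtTarget.of_openCover (P := P) (Scheme.IsLocallyDirected.openCover (pFunctor t s))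
      fun W => ?_
    show P (pullback.snd g (pι W))
    rw [show pullback.snd g (pι W) = (hpb W).flip.isoPullback.inv ≫ pmap W from
      (hpb W).flip.isoPullback_inv_snd.symm, P.cancel_left_of_respectsIso]
    exact h W
  haveI : Surjective g := hP @Surjective fun W => (isQ_pmap W).surj
  haveI : Flat g := hP @Flat fun W => (isQ_pmap W).flat
  haveI : LocallyOfFinitePresentation g := hP @LocallyOfFinitePresentation fun W => (isQ_pmap W).lfp
  refine ⟨pglued t s, (⊤ : U.Opens).ι ≫ g, ?_, inferInstance, inferInstance, fun T a b => ?_⟩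
  · refine ⟨fun y => ?_⟩
    obtain ⟨x, hx⟩ := g.surjective y
    exact ⟨⟨x, trivial⟩, hx⟩
  rw [← Category.assoc, ← Category.assoc]
  generalize a ≫ (⊤ : U.Opens).ι = a'
  generalize b ≫ (⊤ : U.Opens).ι = b'
  constructor
  · intro e
    have hloc : ∀ x : T, ∃ (O : T.Opens) (r : O.toScheme ⟶ R),
        x ∈ O ∧ r ≫ t = O.ι ≫ a' ∧ r ≫ s = O.ι ≫ b' := by
      intro x
      obtain ⟨W, hW⟩ := hc (a' x)
      let O := a' ⁻¹ᵁ W.1
      have hra : Set.range (O.ι ≫ a') ⊆ Set.range W.1.ι := by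
        rintro _ ⟨v, rfl⟩
        rw [Scheme.Opens.range_ι]
        exact v.2
      have hrb : Set.range (O.ι ≫ b') ⊆ Set.range W.1.ι := by
        rintro _ ⟨v, rfl⟩
        rw [Scheme.Opens.range_ι]
        refine hpre W _ ⟨pmap W ⟨a' v.1, v.2⟩, ?_⟩
        rw [← hval, ← Scheme.Hom.comp_apply (O.ι ≫ b') g, Category.assoc, ← e]
        rfl
      have heq : IsOpenImmersion.lift W.1.ι _ hra ≫ pmap W = IsOpenImmersion.lift W.1.ι _ hrb ≫ pmap W := by
        rw [← cancel_mono (pι W), Category.assoc, Category.assoc, ← hg, IsOpenImmersion.lift_fac_assoc,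
          IsOpenImmersion.lift_fac_assoc, Category.assoc, Category.assoc, e]
      obtain ⟨r, h1, h2⟩ := ((isQ_pmap W).eq_iff _ _).1 heq
      exact ⟨O, r, hW, by rw [h1, IsOpenImmersion.lift_fac], by rw [h2, IsOpenImmersion.lift_fac]⟩
    choose O r hO hrt hrs using hloc
    let cov' : T.OpenCover := Scheme.openCoverOfIsOpenCover T O
      (eq_top_iff.2 fun x _ => Opens.mem_iSup.2 ⟨x, hO x⟩)
    let r₀ : T ⟶ R := cov'.glueMorphisms r fun i j => by
      refine hmono _ _ ?_ ?_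
      · show (pullback.fst (O i).ι (O j).ι ≫ r i) ≫ t = (pullback.snd (O i).ι (O j).ι ≫ r j) ≫ t
        rw [Category.assoc, Category.assoc, hrt, hrt, pullback.condition_assoc]
      · show (pullback.fst (O i).ι (O j).ι ≫ r i) ≫ s = (pullback.snd (O i).ι (O j).ι ≫ r j) ≫ s
        rw [Category.assoc, Category.assoc, hrs, hrs, pullback.condition_assoc]
    have hr₀ : ∀ i, (O i).ι ≫ r₀ = r i := fun i => Scheme.Cover.ι_glueMorphisms cov' _ _ i
    exact ⟨r₀, Scheme.hom_ext_of_forall _ _ fun x => ⟨O x, hO x, by rw [reassoc_of% hr₀, hrt]⟩,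
      Scheme.hom_ext_of_forall _ _ fun x => ⟨O x, hO x, by rw [reassoc_of% hr₀, hrs]⟩⟩
  · rintro ⟨r, rfl, rfl⟩
    rw [Category.assoc, Category.assoc]
    congr 1
    refine Scheme.hom_ext_of_forall _ _ fun x => ?_
    obtain ⟨W, hW⟩ := hc (t x)
    refine ⟨t ⁻¹ᵁ W.1, hW, ?_⟩
    have h := (isQ_pmap W).compat (t.resLE W.1 (t ⁻¹ᵁ W.1) le_rfl) (s.resLE W.1 (t ⁻¹ᵁ W.1) W.2.1.le)
      (t ⁻¹ᵁ W.1).ι (Scheme.Hom.resLE_comp_ι _ _).symm (Scheme.Hom.resLE_comp_ι _ _).symm
    rw [← Category.assoc, ← Category.assoc, ← Scheme.Hom.resLE_comp_ι t (le_rfl : t ⁻¹ᵁ W.1 ≤ t ⁻¹ᵁ W.1),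
      ← Scheme.Hom.resLE_comp_ι s W.2.1.le, Category.assoc, Category.assoc, hg, reassoc_of% h]

end Groth.L08.GQuot
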