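import Groth.Agent.L08.GQuot.Gamma
import Groth.Agent.L22.AffineDescent
import Groth.Agent.L25.Translate
import Mathlib.AlgebraicGeometry.EffectiveEpi
import Mathlib.AlgebraicGeometry.Sites.Fpqc
import Mathlib.AlgebraicGeometry.Morphisms.LocalFlatDescent
import Mathlib.AlgebraicGeometry.Morphisms.UniversallyOpen

/-!
# Descent of quasi-affine quotients along a finite change of the base
-/

set_option autoImplicit false
set_option backward.isDefEq.respectTransparency.types false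

universe u

open CategoryTheory CategoryTheory.Limits AlgebraicGeometry TopologicalSpace TensorProduct

noncomputable section

namespace Groth.L08.GQuot

/-- The structure map of global sections over an affine base. -/
def gam {A : CommRingCat.{u}} {X : Scheme.{u}} (π : X ⟶ Spec A) : A ⟶ Γ(X, ⊤) :=
  (Scheme.ΓSpecIso A).inv ≫ π.appTop

theorem gam_comp {A : CommRingCat.{u}} {X X' : Scheme.{u}} (g : X' ⟶ X) (π : X ⟶ Spec A) :
    gam (g ≫ π) = gam π ≫ g.appTop := by simp [gam]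

theorem toSpecΓ_gam {A : CommRingCat.{u}} {X : Scheme.{u}} (π : X ⟶ Spec A) :
    X.toSpecΓ ≫ Spec.map (gam π) = π := by
  rw [gam, Spec.map_comp, ← Scheme.toSpecΓ_naturality_assoc, ← SpecMap_ΓSpecIso_hom, ← Spec.map_comp,
    Iso.inv_hom_id, Spec.map_id, Category.comp_id]

theorem gam_toSpecΓ {A : CommRingCat.{u}} {X : Scheme.{u}} (ψ : A ⟶ Γ(X, ⊤)) :
    gam (X.toSpecΓ ≫ Spec.map ψ) = ψ := by
  simp [gam, Scheme.toSpecΓ_appTop]

/-- Global sections after a flat change of an affine base. -/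
theorem exists_gam_equiv {A₀ A₁ : CommRingCat.{u}} (θ : A₀ ⟶ A₁) [Algebra A₀ A₁]
    (hθ : algebraMap A₀ A₁ = θ.hom) [Flat (Spec.map θ)] {X X' : Scheme.{u}} (g : X' ⟶ X)
    (π : X ⟶ Spec A₀) (π' : X' ⟶ Spec A₁) (H : IsPullback g π' π (Spec.map θ))
    [CompactSpace X] [QuasiSeparatedSpace X] [Algebra A₀ Γ(X, ⊤)] (hX : algebraMap A₀ Γ(X, ⊤) = (gam π).hom) :
    ∃ e : Γ(X, ⊤) ⊗[A₀] A₁ ≃+* Γ(X', ⊤), ∀ a b, e (a ⊗ₜ b) = g.appTop.hom a * (gam π').hom b := by
  have h1 := Groth.L22.AffDesc.isPushout_appTop H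
  have h2 : IsPushout (gam π) θ g.appTop (gam π') := by
    refine h1.of_iso (Scheme.ΓSpecIso A₀) (Iso.refl _) (Scheme.ΓSpecIso A₁) (Iso.refl _) ?_ ?_ ?_ ?_
    · simp [gam]
    · exact Scheme.ΓSpecIso_naturality θ
    · simp
    · simp [gam]
  have h3 := CommRingCat.isPushout_tensorProduct (R := A₀) (A := Γ(X, ⊤)) (B := A₁)
  have eX : CommRingCat.ofHom (algebraMap A₀ Γ(X, ⊤)) = gam π := CommRingCat.hom_ext hX
  have eθ : CommRingCat.ofHom (algebraMap A₀ A₁) = θ := CommRingCat.hom_ext hθ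
  rw [eX, eθ] at h3
  refine ⟨(h3.isoIsPushout _ _ h2).commRingCatIsoToRingEquiv, fun a b => ?_⟩
  have l := congr(($(h3.inl_isoIsPushout_hom _ _ h2)).hom a)
  have r := congr(($(h3.inr_isoIsPushout_hom _ _ h2)).hom b)
  have : a ⊗ₜ[A₀] b = (a ⊗ₜ[A₀] (1 : A₁)) * ((1 : Γ(X, ⊤)) ⊗ₜ[A₀] b) := by
    rw [Algebra.TensorProduct.tmul_mul_tmul, _root_.mul_one, _root_.one_mul]
  rw [this, map_mul]
  exact congr_arg₂ (· * ·) l r

/-- A quasi-affine quotient after a finite change of the base descends. -/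
theorem exists_descent {A₀ A₁ : CommRingCat.{u}} (θ : A₀ ⟶ A₁) [Flat (Spec.map θ)] [Surjective (Spec.map θ)]
    [LocallyOfFinitePresentation (Spec.map θ)]
    {U R U' R' : Scheme.{u}} [CompactSpace U] [QuasiSeparatedSpace U] [CompactSpace R] [QuasiSeparatedSpace R]
    {t s : R ⟶ U} {t' s' : R' ⟶ U'} (g : U' ⟶ U) (gR : R' ⟶ R) (π : U ⟶ Spec A₀) (π' : U' ⟶ Spec A₁)
    (sq : IsPullback g π' π (Spec.map θ)) (sqR : IsPullback gR (t' ≫ π') (t ≫ π) (Spec.map θ))
    (ht : t' ≫ g = gR ≫ t) (hs : s' ≫ g = gR ≫ s)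
    (hπ : t ≫ π = s ≫ π) (hπ' : t' ≫ π' = s' ≫ π')
    (hmono : ∀ ⦃T : Scheme.{u}⦄ (r r' : T ⟶ R), r ≫ t = r' ≫ t → r ≫ s = r' ≫ s → r = r')
    {Y : Scheme.{u}} (p : U' ⟶ Y) [Surjective p] [Flat p] [LocallyOfFinitePresentation p] [Y.IsQuasiAffine]
    (hp : ∀ ⦃T : Scheme.{u}⦄ (a b : T ⟶ U'), a ≫ p = b ≫ p ↔ ∃ r : T ⟶ R', r ≫ t' = a ∧ r ≫ s' = b) :
    ∃ (V : Scheme.{u}) (q : U ⟶ V), Surjective q ∧ Flat q ∧ LocallyOfFinitePresentation q ∧
      ∀ ⦃T : Scheme.{u}⦄ (a b : T ⟶ U), a ≫ q = b ≫ q ↔ ∃ r : T ⟶ R, r ≫ t = a ∧ r ≫ s = b := by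
  letI : Algebra A₀ A₁ := θ.hom.toAlgebra
  letI : Algebra A₀ Γ(U, ⊤) := (gam π).hom.toAlgebra
  letI : Algebra A₀ Γ(R, ⊤) := (gam (t ≫ π)).hom.toAlgebra
  haveI : Module.Flat A₀ A₁ := Flat.SpecMap_iff.1 (inferInstanceAs (Flat (Spec.map θ)))
  obtain ⟨eA, heA⟩ := exists_gam_equiv θ rfl g π π' sq rfl
  obtain ⟨eC, heC⟩ := exists_gam_equiv θ rfl gR (t ≫ π) (t' ≫ π') sqR rfl
  let ft : Γ(U, ⊤) →ₐ[A₀] Γ(R, ⊤) := ⟨t.appTop.hom, fun a => congr(($(gam_comp t π)).hom a).symm⟩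
  let fs : Γ(U, ⊤) →ₐ[A₀] Γ(R, ⊤) :=
    ⟨s.appTop.hom, fun a => (congr(($(gam_comp s π)).hom a).symm).trans congr((gam $(hπ.symm)).hom a)⟩
  have cmp : ∀ {a : R ⟶ U} {a' : R' ⟶ U'}, a' ≫ g = gR ≫ a → a' ≫ π' = t' ≫ π' → ∀ x b,
      a'.appTop.hom (eA (x ⊗ₜ b)) = eC (a.appTop.hom x ⊗ₜ b) := by
    intro a a' h h' x b
    rw [heA, heC, map_mul, ← h', gam_comp]
    congr 1
    have := congr(($(congrArg Scheme.Hom.appTop h)).hom x)
    simpa using this
  obtain ⟨hinj, hinv⟩ := invariants_baseChange ft fs t'.appTop.hom s'.appTop.hom eA eC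
    (cmp ht rfl) (cmp hs hπ'.symm)
  let B := AlgHom.equalizer ft fs
  let C := CommRingCat.of (B ⊗[A₀] A₁)
  let ψ : C ⟶ Γ(U', ⊤) := CommRingCat.ofHom
    (eA.toRingHom.comp (Algebra.TensorProduct.map B.val (AlgHom.id A₀ A₁)).toRingHom)
  have hψ : ∀ z, ψ.hom z = eA (Algebra.TensorProduct.map B.val (AlgHom.id A₀ A₁) z) := fun _ => rfl
  let ν : Spec C ⟶ Spec (CommRingCat.of B) := Spec.map (CommRingCat.ofHom Algebra.TensorProduct.includeLeftRingHom)
  let p₀ : U ⟶ Spec (CommRingCat.of B) := U.toSpecΓ ≫ Spec.map (CommRingCat.ofHom B.val.toRingHom)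
  let πB : Spec (CommRingCat.of B) ⟶ Spec A₀ := Spec.map (CommRingCat.ofHom (algebraMap A₀ B))
  let πC : Spec C ⟶ Spec A₁ :=
    Spec.map (CommRingCat.ofHom (Algebra.TensorProduct.includeRight (R := A₀) (A := B) (B := A₁)).toRingHom)
  let m : U' ⟶ Spec C := U'.toSpecΓ ≫ Spec.map ψ
  have sqν : IsPullback ν πC πB (Spec.map θ) :=
    isPullback_SpecMap_of_isPushout _ _ _ _ (CommRingCat.isPushout_tensorProduct (R := A₀) (A := B) (B := A₁))
  have hp₀ : p₀ ≫ πB = π := by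
    rw [Category.assoc, ← Spec.map_comp]
    exact (congrArg (fun z => U.toSpecΓ ≫ Spec.map z) (CommRingCat.hom_ext (RingHom.ext fun a => rfl))).trans
      (toSpecΓ_gam π)
  have hm : m ≫ πC = π' := by
    rw [Category.assoc, ← Spec.map_comp]
    refine (congrArg (fun z => U'.toSpecΓ ≫ Spec.map z) (CommRingCat.hom_ext (RingHom.ext fun a => ?_))).trans
      (toSpecΓ_gam π')
    show eA ((B.val (1 : B)) ⊗ₜ a) = _
    rw [heA, map_one, map_one, _root_.one_mul]
  have hg : g ≫ p₀ = m ≫ ν := by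
    show g ≫ U.toSpecΓ ≫ _ = (U'.toSpecΓ ≫ Spec.map ψ) ≫ _
    rw [Scheme.toSpecΓ_naturality_assoc, Category.assoc, ← Spec.map_comp, ← Spec.map_comp]
    refine congrArg (fun z => U'.toSpecΓ ≫ Spec.map z) (CommRingCat.hom_ext (RingHom.ext fun a => ?_))
    show g.appTop.hom (B.val a) = eA (B.val a ⊗ₜ (1 : A₁))
    rw [heA, map_one, _root_.mul_one]
  have sqm : IsPullback g m p₀ ν := IsPullback.of_bot (by rw [hm, hp₀]; exact sq) hg sqν
  -- the quotient upstairs maps isomorphically onto an open of `Spec C`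
  have tsp : t' ≫ p = s' ≫ p := (hp t' s').2 ⟨𝟙 _, Category.id_comp _, Category.id_comp _⟩
  haveI : EffectiveEpi p := inferInstance
  have hψinv : ψ ≫ t'.appTop = ψ ≫ s'.appTop := by
    refine CommRingCat.hom_ext (RingHom.ext fun z => ?_)
    exact (hinv _).2 ⟨z, rfl⟩
  have hmt : t' ≫ m = s' ≫ m := by
    show t' ≫ U'.toSpecΓ ≫ _ = s' ≫ U'.toSpecΓ ≫ _
    rw [Scheme.toSpecΓ_naturality_assoc, Scheme.toSpecΓ_naturality_assoc, ← Spec.map_comp, ← Spec.map_comp, hψinv]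
  obtain ⟨h, hh⟩ : ∃ h : Y ⟶ Spec C, p ≫ h = m :=
    ⟨EffectiveEpi.desc p m fun a b e => by
      obtain ⟨r, rfl, rfl⟩ := (hp a b).1 e
      rw [Category.assoc, Category.assoc, hmt], EffectiveEpi.fac _ _ _⟩
  have he : gam h ≫ p.appTop = ψ := by rw [← gam_comp, hh]; exact gam_toSpecΓ ψ
  have hbij : Function.Bijective (gam h).hom := by
    refine ⟨fun x y e => hinj ?_, fun y => ?_⟩
    · have := congrArg p.appTop.hom e
      rw [← CommRingCat.comp_apply, ← CommRingCat.comp_apply, he] at this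
      exact this
    · obtain ⟨z, hz⟩ := (hinv (p.appTop.hom y)).1 (by
        have := congr(($(congrArg Scheme.Hom.appTop tsp)).hom y)
        simpa using this)
      refine ⟨z, appTop_injective_of_epi p ?_⟩
      rw [← CommRingCat.comp_apply, he]
      exact hz
  haveI : IsIso (gam h) := (ConcreteCategory.isIso_iff_bijective _).2 hbij
  haveI : IsOpenImmersion h := by rw [← toSpecΓ_gam h]; infer_instance
  -- descend
  haveI : Flat ν := MorphismProperty.of_isPullback (P := @Flat) sqν.flip inferInstance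
  haveI : Surjective ν := MorphismProperty.of_isPullback (P := @Surjective) sqν.flip inferInstance
  haveI : LocallyOfFinitePresentation ν :=
    MorphismProperty.of_isPullback (P := @LocallyOfFinitePresentation) sqν.flip inferInstance
  haveI : Surjective g := MorphismProperty.of_isPullback (P := @Surjective) sq.flip inferInstance
  haveI : Flat g := MorphismProperty.of_isPullback (P := @Flat) sq.flip inferInstance
  let V : (Spec (CommRingCat.of B)).Opens := ⟨Set.range (h ≫ ν), (h ≫ ν).isOpenMap.isOpen_range⟩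
  have hmem : ∀ x : U, p₀ x ∈ V := fun x => by
    obtain ⟨x', rfl⟩ := g.surjective x
    refine ⟨p x', ?_⟩
    rw [← Scheme.Hom.comp_apply, ← Scheme.Hom.comp_apply, hg, reassoc_of% hh]
  let q : U ⟶ V.toScheme := IsOpenImmersion.lift V.ι p₀ (by
    rintro _ ⟨x, rfl⟩
    rw [Scheme.Opens.range_ι]
    exact hmem x)
  have hq : q ≫ V.ι = p₀ := IsOpenImmersion.lift_fac _ _ _
  let νV : Y ⟶ V.toScheme := IsOpenImmersion.lift V.ι (h ≫ ν) (by
    rw [Scheme.Opens.range_ι]; exact subset_rfl)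
  have hνV : νV ≫ V.ι = h ≫ ν := IsOpenImmersion.lift_fac _ _ _
  have sqY : IsPullback h νV ν V.ι := (IsOpenImmersion.isPullback νV h V.ι ν hνV.symm (by
    rw [Scheme.Opens.opensRange_ι]
    ext z
    constructor
    · rintro ⟨y, hy⟩
      obtain ⟨x, rfl⟩ := p.surjective y
      have e : p₀ (g x) = ν z := by
        rw [← Scheme.Hom.comp_apply, hg, ← hh, Category.assoc, Scheme.Hom.comp_apply]; exact hy
      obtain ⟨x', -, h2⟩ := Scheme.exists_preimage_of_isPullback sqm (g x) z e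
      exact ⟨p x', by rw [← h2, ← hh]; rfl⟩
    · rintro ⟨y, rfl⟩
      exact ⟨y, rfl⟩)).flip
  have hgq : g ≫ q = p ≫ νV := by
    rw [← cancel_mono V.ι, Category.assoc, Category.assoc, hq, hνV, hg, reassoc_of% hh]
  have sqq : IsPullback g p q νV := IsPullback.of_bot (by rw [hh, hq]; exact sqm) hgq sqY.flip
  haveI : Surjective νV := MorphismProperty.of_isPullback (P := @Surjective) sqY inferInstance
  haveI : Flat νV := MorphismProperty.of_isPullback (P := @Flat) sqY inferInstance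
  haveI : QuasiCompact νV := MorphismProperty.of_isPullback (P := @QuasiCompact) sqY inferInstance
  haveI : Surjective q := by
    have : Surjective (g ≫ q) := hgq ▸ inferInstance
    exact Surjective.of_comp g q
  haveI : Flat q := by
    have : Flat (g ≫ q) := hgq ▸ inferInstance
    exact Groth.L25.Translate.flat_of_comp g q
  haveI : LocallyOfFinitePresentation q :=
    MorphismProperty.of_isPullback_of_descendsAlong (P := @LocallyOfFinitePresentation)
      (Q := @Surjective ⊓ @Flat ⊓ @QuasiCompact) sqq.flip ⟨⟨inferInstance, inferInstance⟩, inferInstance⟩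
      inferInstance
  refine ⟨V.toScheme, q, inferInstance, inferInstance, inferInstance, fun T a b => ⟨fun hab => ?_, ?_⟩⟩
  · have hab₀ : a ≫ p₀ = b ≫ p₀ := by rw [← hq, reassoc_of% hab]
    have habπ : a ≫ π = b ≫ π := by rw [← hp₀, reassoc_of% hab₀]
    let c := pullback.fst (a ≫ π) (Spec.map θ)
    let a' := sq.lift (c ≫ a) (pullback.snd _ _) (by rw [Category.assoc, pullback.condition])
    let b' := sq.lift (c ≫ b) (pullback.snd _ _) (by rw [Category.assoc, ← habπ, pullback.condition])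
    have e : a' ≫ p = b' ≫ p := by
      rw [← cancel_mono h, Category.assoc, Category.assoc, hh]
      apply sqν.hom_ext
      · show (a' ≫ m) ≫ ν = (b' ≫ m) ≫ ν
        rw [Category.assoc a' m ν, Category.assoc b' m ν, ← hg, sq.lift_fst_assoc, sq.lift_fst_assoc,
          Category.assoc, Category.assoc, hab₀]
      · show (a' ≫ m) ≫ πC = (b' ≫ m) ≫ πC
        rw [Category.assoc a' m πC, Category.assoc b' m πC, hm, sq.lift_snd, sq.lift_snd]
    obtain ⟨r', h1, h2⟩ := (hp a' b').1 e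
    have e1 : (r' ≫ gR) ≫ t = c ≫ a := by rw [Category.assoc, ← ht, reassoc_of% h1, sq.lift_fst]
    have e2 : (r' ≫ gR) ≫ s = c ≫ b := by rw [Category.assoc, ← hs, reassoc_of% h2, sq.lift_fst]
    haveI : EffectiveEpi c := inferInstance
    refine ⟨EffectiveEpi.desc c (r' ≫ gR) fun g₁ g₂ w => hmono _ _ ?_ ?_, ?_, ?_⟩
    · rw [Category.assoc g₁ (r' ≫ gR) t, Category.assoc g₂ (r' ≫ gR) t, e1, ← Category.assoc, ← Category.assoc, w]
    · rw [Category.assoc g₁ (r' ≫ gR) s, Category.assoc g₂ (r' ≫ gR) s, e2, ← Category.assoc, ← Category.assoc, w]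
    · rw [← cancel_epi c, EffectiveEpi.fac_assoc, e1]
    · rw [← cancel_epi c, EffectiveEpi.fac_assoc, e2]
  · rintro ⟨r, rfl, rfl⟩
    have : t ≫ p₀ = s ≫ p₀ := by
      show t ≫ U.toSpecΓ ≫ _ = s ≫ U.toSpecΓ ≫ _
      rw [Scheme.toSpecΓ_naturality_assoc, Scheme.toSpecΓ_naturality_assoc, ← Spec.map_comp, ← Spec.map_comp]
      exact congrArg (fun z => R.toSpecΓ ≫ Spec.map z) (CommRingCat.hom_ext (RingHom.ext fun a => a.2))
    rw [← cancel_mono V.ι]
    simp only [Category.assoc, hq, this]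

end Groth.L08.GQuot
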