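import Groth.Agent.L08.GQuot.Basic
import Groth.Agent.L08.GQuot.Descent
import Mathlib.AlgebraicGeometry.Noetherian

/-!
# Saturation, base change and descent for quotients of saturated opens
-/

set_option autoImplicit false
set_option backward.isDefEq.respectTransparency.types false

universe u

open CategoryTheory CategoryTheory.Limits AlgebraicGeometry TopologicalSpace

noncomputable section

namespace Groth.L08.GQuot

variable {U R : Scheme.{u}} {t s : R ⟶ U}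

section BaseChange

variable {A₀ A₁ : CommRingCat.{u}} {θ : A₀ ⟶ A₁} {U' R' : Scheme.{u}} {t' s' : R' ⟶ U'}
  {g : U' ⟶ U} {gR : R' ⟶ R} {π : U ⟶ Spec A₀} {π' : U' ⟶ Spec A₁}

/-- The square of arrows over the square of objects. -/
theorem isPullback_arrow (sq : IsPullback g π' π (Spec.map θ))
    (sqR : IsPullback gR (t' ≫ π') (t ≫ π) (Spec.map θ)) {a : R ⟶ U} {a' : R' ⟶ U'}
    (ha : a' ≫ g = gR ≫ a) (haπ : a ≫ π = t ≫ π) (haπ' : a' ≫ π' = t' ≫ π') :
    IsPullback gR a' a g :=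
  IsPullback.of_bot (by rw [haπ, haπ']; exact sqR) ha.symm sq

theorem Sat.preimage_bc (ht : t' ≫ g = gR ≫ t) (hs : s' ≫ g = gR ≫ s) {W : U.Opens} (hW : Sat t s W) :
    Sat t' s' (g ⁻¹ᵁ W) := hW.comap g gR ht hs

/-- The largest open whose preimage lies in a given saturated open. -/
theorem exists_core (sq : IsPullback g π' π (Spec.map θ))
    (sqR : IsPullback gR (t' ≫ π') (t ≫ π) (Spec.map θ))
    (ht : t' ≫ g = gR ≫ t) (hs : s' ≫ g = gR ≫ s) (hπ : t ≫ π = s ≫ π) (hπ' : t' ≫ π' = s' ≫ π')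
    (hg : IsClosedMap g) {O' : U'.Opens} (hO : Sat t' s' O') :
    ∃ D : U.Opens, Sat t s D ∧ g ⁻¹ᵁ D ≤ O' ∧ ∀ x, (∀ z, g z = x → z ∈ O') → x ∈ D := by
  let D : U.Opens := ⟨(g '' (O' : Set U')ᶜ)ᶜ, (hg _ O'.isOpen.isClosed_compl).isOpen_compl⟩
  have hmem : ∀ x, x ∈ D ↔ ∀ z, g z = x → z ∈ O' := fun x => by
    show ¬ (∃ z, z ∉ O' ∧ g z = x) ↔ _
    exact ⟨fun h z hz => by_contra fun hn => h ⟨z, hn, hz⟩, fun h ⟨z, hn, hz⟩ => hn (h z hz)⟩
  refine ⟨D, TopologicalSpace.Opens.ext (Set.ext fun r => ?_), fun z hz => (hmem _).1 hz z rfl,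
    fun x hx => (hmem x).2 hx⟩
  show t r ∈ D ↔ s r ∈ D
  rw [hmem, hmem]
  constructor
  · intro h z hz
    obtain ⟨r', h1, h2⟩ := Scheme.exists_preimage_of_isPullback
      (isPullback_arrow sq sqR hs hπ.symm hπ'.symm) r z hz.symm
    have : g (t' r') = t r := by rw [← Scheme.Hom.comp_apply, ht, Scheme.Hom.comp_apply, h1]
    exact h2 ▸ (hO.mem_iff r').1 (h _ this)
  · intro h z hz
    obtain ⟨r', h1, h2⟩ := Scheme.exists_preimage_of_isPullback
      (isPullback_arrow sq sqR ht rfl rfl) r z hz.symm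
    have : g (s' r') = s r := by rw [← Scheme.Hom.comp_apply, hs, Scheme.Hom.comp_apply, h1]
    exact h2 ▸ (hO.mem_iff r').2 (h _ this)

/-- Quotients commute with base change. -/
theorem IsQ.baseChange (sq : IsPullback g π' π (Spec.map θ))
    (sqR : IsPullback gR (t' ≫ π') (t ≫ π) (Spec.map θ))
    (ht : t' ≫ g = gR ≫ t) (hs : s' ≫ g = gR ≫ s) (hπ' : t' ≫ π' = s' ≫ π')
    {W : U.Opens} {Y : Scheme.{u}} {p : W.toScheme ⟶ Y} (hp : IsQ t s W p) (q : Y ⟶ Spec A₀)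
    (hq : p ≫ q = W.ι ≫ π) :
    ∃ p' : (g ⁻¹ᵁ W).toScheme ⟶ pullback q (Spec.map θ), IsQ t' s' (g ⁻¹ᵁ W) p' := by
  let ι' := (g ⁻¹ᵁ W).ι
  have sqW : IsPullback (g ∣_ W) (ι' ≫ π') (p ≫ q) (Spec.map θ) := by
    rw [hq]
    exact (isPullback_morphismRestrict g W).paste_vert sq
  let p' : (g ⁻¹ᵁ W).toScheme ⟶ pullback q (Spec.map θ) :=
    pullback.lift ((g ∣_ W) ≫ p) (ι' ≫ π') (by rw [Category.assoc]; exact sqW.w)
  have sqp : IsPullback (g ∣_ W) p' p (pullback.fst q (Spec.map θ)) :=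
    IsPullback.of_bot (by rw [pullback.lift_snd]; exact sqW) (pullback.lift_fst _ _ _).symm
      (IsPullback.of_hasPullback _ _)
  refine ⟨p', MorphismProperty.of_isPullback (P := @Surjective) sqp hp.surj,
    MorphismProperty.of_isPullback (P := @Flat) sqp hp.flat,
    MorphismProperty.of_isPullback (P := @LocallyOfFinitePresentation) sqp hp.lfp, fun T a b => ?_⟩
  constructor
  · intro e
    have e1 := e =≫ pullback.fst q (Spec.map θ)
    have e2 := e =≫ pullback.snd q (Spec.map θ)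
    simp only [p', Category.assoc, pullback.lift_fst, pullback.lift_snd] at e1 e2
    obtain ⟨r, h1, h2⟩ := (hp.eq_iff (a ≫ g ∣_ W) (b ≫ g ∣_ W)).1 (by simpa only [Category.assoc] using e1)
    simp only [Category.assoc, morphismRestrict_ι] at h1 h2
    let r' := sqR.lift r (a ≫ ι' ≫ π') (by rw [reassoc_of% h1, sq.w, Category.assoc, Category.assoc])
    have l1 : r' ≫ gR = r := sqR.lift_fst _ _ _
    have l2 : r' ≫ t' ≫ π' = a ≫ ι' ≫ π' := sqR.lift_snd _ _ _
    refine ⟨r', sq.hom_ext ?_ (by rw [Category.assoc, Category.assoc]; exact l2), sq.hom_ext ?_ ?_⟩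
    · rw [Category.assoc, ht, reassoc_of% l1, h1, Category.assoc]
    · rw [Category.assoc, hs, reassoc_of% l1, h2, Category.assoc]
    · rw [Category.assoc, ← hπ', l2, e2, Category.assoc]
  · rintro ⟨r, h1, h2⟩
    apply pullback.hom_ext
    · simp only [p', Category.assoc, pullback.lift_fst]
      have := hp.compat (a ≫ g ∣_ W) (b ≫ g ∣_ W) (r ≫ gR)
        (by rw [Category.assoc, ← ht, reassoc_of% h1, Category.assoc, morphismRestrict_ι])
        (by rw [Category.assoc, ← hs, reassoc_of% h2, Category.assoc, morphismRestrict_ι])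
      simpa only [Category.assoc] using this
    · simp only [p', Category.assoc, pullback.lift_snd]
      rw [← reassoc_of% h1, hπ', reassoc_of% h2]

/-- Quasi-affine quotients descend. -/
theorem IsQ.exists_descent [Flat (Spec.map θ)] [Surjective (Spec.map θ)]
    [LocallyOfFinitePresentation (Spec.map θ)] [QuasiSeparatedSpace U] [QuasiSeparatedSpace R]
    (sq : IsPullback g π' π (Spec.map θ)) (sqR : IsPullback gR (t' ≫ π') (t ≫ π) (Spec.map θ))
    (ht : t' ≫ g = gR ≫ t) (hs : s' ≫ g = gR ≫ s) (hπ : t ≫ π = s ≫ π) (hπ' : t' ≫ π' = s' ≫ π')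
    (hmono : ∀ ⦃T : Scheme.{u}⦄ (r r' : T ⟶ R), r ≫ t = r' ≫ t → r ≫ s = r' ≫ s → r = r')
    {W : U.Opens} (hWc : IsCompact (W : Set U)) (hRc : IsCompact ((t ⁻¹ᵁ W ⊓ s ⁻¹ᵁ W : R.Opens) : Set R))
    {Y : Scheme.{u}}
    {p : (g ⁻¹ᵁ W).toScheme ⟶ Y} (hp : IsQ t' s' (g ⁻¹ᵁ W) p) [Y.IsQuasiAffine] :
    ∃ (V : Scheme.{u}) (q : W.toScheme ⟶ V), IsQ t s W q := by
  haveI := hp.surj
  haveI := hp.flat
  haveI := hp.lfp
  let O : R.Opens := t ⁻¹ᵁ W ⊓ s ⁻¹ᵁ W
  let O' : R'.Opens := gR ⁻¹ᵁ O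
  have hOt : O' ≤ t' ⁻¹ᵁ g ⁻¹ᵁ W := fun r hr => show g (t' r) ∈ W by
    rw [← Scheme.Hom.comp_apply, ht, Scheme.Hom.comp_apply]; exact hr.1
  have hOs : O' ≤ s' ⁻¹ᵁ g ⁻¹ᵁ W := fun r hr => show g (s' r) ∈ W by
    rw [← Scheme.Hom.comp_apply, hs, Scheme.Hom.comp_apply]; exact hr.2
  haveI : CompactSpace W.toScheme := isCompact_iff_compactSpace.1 hWc
  haveI : CompactSpace O.toScheme := isCompact_iff_compactSpace.1 hRc
  haveI : QuasiSeparatedSpace W.toScheme := W.ι.isOpenEmbedding.quasiSeparatedSpace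
  haveI : QuasiSeparatedSpace O.toScheme := O.ι.isOpenEmbedding.quasiSeparatedSpace
  let tW : O.toScheme ⟶ W.toScheme := t.resLE W O inf_le_left
  let sW : O.toScheme ⟶ W.toScheme := s.resLE W O inf_le_right
  have esW : sW ≫ W.ι = O.ι ≫ s := Scheme.Hom.resLE_comp_ι _ _
  let tW' : O'.toScheme ⟶ (g ⁻¹ᵁ W).toScheme := t'.resLE (g ⁻¹ᵁ W) O' hOt
  let sW' : O'.toScheme ⟶ (g ⁻¹ᵁ W).toScheme := s'.resLE (g ⁻¹ᵁ W) O' hOs
  have etW : tW ≫ W.ι = O.ι ≫ t := Scheme.Hom.resLE_comp_ι _ _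
  have etW' : tW' ≫ (g ⁻¹ᵁ W).ι = O'.ι ≫ t' := Scheme.Hom.resLE_comp_ι _ _
  have esW' : sW' ≫ (g ⁻¹ᵁ W).ι = O'.ι ≫ s' := Scheme.Hom.resLE_comp_ι _ _
  have sqW : IsPullback (g ∣_ W) ((g ⁻¹ᵁ W).ι ≫ π') (W.ι ≫ π) (Spec.map θ) :=
    (isPullback_morphismRestrict g W).paste_vert sq
  have sqO : IsPullback (gR ∣_ O) (tW' ≫ (g ⁻¹ᵁ W).ι ≫ π') (tW ≫ W.ι ≫ π) (Spec.map θ) := by
    rw [reassoc_of% etW, reassoc_of% etW']
    exact (isPullback_morphismRestrict gR O).paste_vert sqR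
  obtain ⟨V, q, h1, h2, h3, h4⟩ := Groth.L08.GQuot.exists_descent θ (t := tW) (s := sW) (t' := tW')
    (s' := sW') (g ∣_ W) (gR ∣_ O) (W.ι ≫ π) ((g ⁻¹ᵁ W).ι ≫ π') sqW sqO
    (by rw [← cancel_mono W.ι]; simp only [Category.assoc, morphismRestrict_ι, reassoc_of% etW', etW,
          morphismRestrict_ι_assoc, ht, O'])
    (by rw [← cancel_mono W.ι]; simp only [Category.assoc, morphismRestrict_ι, reassoc_of% esW', esW,
          morphismRestrict_ι_assoc, hs, O'])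
    (by rw [reassoc_of% etW, reassoc_of% esW, hπ])
    (by rw [reassoc_of% etW', reassoc_of% esW', hπ'])
    (fun T r r' e1 e2 => by
      rw [← cancel_mono O.ι]
      refine hmono _ _ ?_ ?_
      · rw [Category.assoc, Category.assoc, ← etW, reassoc_of% e1]
      · rw [Category.assoc, Category.assoc, ← esW, reassoc_of% e2])
    p (fun T a b => by
      rw [hp.eq_iff]
      constructor
      · rintro ⟨r, e1, e2⟩
        let r₀ : T ⟶ O'.toScheme := IsOpenImmersion.lift O'.ι r (by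
          rintro _ ⟨x, rfl⟩
          rw [Scheme.Opens.range_ι]
          show r x ∈ O'
          refine ⟨?_, ?_⟩
          · show t (gR (r x)) ∈ W
            rw [← Scheme.Hom.comp_apply gR t, ← ht, Scheme.Hom.comp_apply t' g, ← Scheme.Hom.comp_apply r t', e1]
            exact (a x).2
          show s (gR (r x)) ∈ W
          rw [← Scheme.Hom.comp_apply gR s, ← hs, Scheme.Hom.comp_apply s' g, ← Scheme.Hom.comp_apply r s', e2]
          exact (b x).2)
        have l : r₀ ≫ O'.ι = r := IsOpenImmersion.lift_fac _ _ _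
        refine ⟨r₀, ?_, ?_⟩
        · rw [← cancel_mono (g ⁻¹ᵁ W).ι, Category.assoc, etW', reassoc_of% l, e1]
        · rw [← cancel_mono (g ⁻¹ᵁ W).ι, Category.assoc, esW', reassoc_of% l, e2]
      · rintro ⟨r, rfl, rfl⟩
        exact ⟨r ≫ O'.ι, by rw [Category.assoc, Category.assoc, etW'], by rw [Category.assoc, Category.assoc, esW']⟩)
  refine ⟨V, q, h1, h2, h3, fun T a b => ?_⟩
  rw [h4]
  constructor
  · rintro ⟨r, rfl, rfl⟩
    exact ⟨r ≫ O.ι, by rw [Category.assoc, Category.assoc, etW],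
      by rw [Category.assoc, Category.assoc, esW]⟩
  · rintro ⟨r, e1, e2⟩
    let r₀ : T ⟶ O.toScheme := IsOpenImmersion.lift O.ι r (by
      rintro _ ⟨x, rfl⟩
      rw [Scheme.Opens.range_ι]
      refine ⟨?_, ?_⟩
      · show t (r x) ∈ W
        rw [← Scheme.Hom.comp_apply, e1]
        exact (a x).2
      show s (r x) ∈ W
      rw [← Scheme.Hom.comp_apply, e2]
      exact (b x).2)
    have l : r₀ ≫ O.ι = r := IsOpenImmersion.lift_fac _ _ _
    refine ⟨r₀, ?_, ?_⟩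
    · rw [← cancel_mono W.ι, Category.assoc, etW, reassoc_of% l, e1]
    · rw [← cancel_mono W.ι, Category.assoc, esW, reassoc_of% l, e2]

end BaseChange

end Groth.L08.GQuot
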