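import Groth.Agent.L08.GQuot.Act
import Groth.Agent.L08.GQuot.Rel
import Groth.Agent.L08.GQuot.Glue
import Groth.Agent.S4089
import Groth.Agent.L25.Actions
import Groth.Agent.L20.FlatGeneric
import Groth.Agent.L25.Translate
import Groth.Agent.L20.QuasiAffine
import Groth.Agent.L20.GenSmooth.Scheme
import Mathlib.AlgebraicGeometry.Morphisms.QuasiFinite

/-!
# Quotient of a group scheme over a field by a quasi-compact subgroup
-/

set_option autoImplicit false
set_option backward.isDefEq.respectTransparency.types false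
set_option linter.style.haveILetI false

universe u

open CategoryTheory CategoryTheory.Limits MonoidalCategory CartesianMonoidalCategory MonObj AlgebraicGeometry TopologicalSpace

noncomputable section

namespace Groth.L08.GQuot

variable {k : Type u} [Field k] {F G : Over (Spec (CommRingCat.of k))} [GrpObj F] [GrpObj G]
  [LocallyOfFiniteType F.hom] [LocallyOfFiniteType G.hom]
  (v : F ⟶ G) [IsMonHom v] [Mono v] [QuasiCompact v.left]

/-- The properties of the target map. -/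
theorem tt_props : Flat (tt v) ∧ LocallyOfFinitePresentation (tt v) :=
  ⟨tt_prop v @Flat (inferInstanceAs (Flat (pullback.snd F.hom G.hom))),
    tt_prop v @LocallyOfFinitePresentation (inferInstanceAs (LocallyOfFinitePresentation (pullback.snd F.hom G.hom)))⟩

/-- A quasi-compact open has a dense open part whose saturation has an affine quotient. -/
theorem exists_affine_piece (U : G.left.Opens) (hUc : IsCompact (U : Set G.left)) :
    ∃ (W : G.left.Opens) (Y : Scheme.{u}) (p : W.toScheme ⟶ Y) (q : Y ⟶ Spec (CommRingCat.of k)),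
      Sat (tt v) (ss F G) W ∧ IsQ (tt v) (ss F G) W p ∧ IsAffine Y ∧ p ≫ q = W.ι ≫ G.hom ∧
      ∀ ζ ∈ genericPoints G.left, ζ ∈ U → ζ ∈ W := by
  haveI : IsLocallyNoetherian G.left := LocallyOfFiniteType.isLocallyNoetherian G.hom
  haveI : IsLocallyNoetherian (F ⊗ G).left := LocallyOfFiniteType.isLocallyNoetherian (pullback.snd F.hom G.hom)
  obtain ⟨_, _⟩ := tt_props v
  let R₁ := bothEnds (tt v) (ss F G) U
  haveI : CompactSpace U.toScheme := isCompact_iff_compactSpace.1 hUc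
  haveI : CompactSpace R₁.toScheme := isCompact_iff_compactSpace.1 (isCompact_bothEnds v U hUc)
  haveI : QuasiSeparatedSpace U.toScheme := inferInstance
  let t₁ := tRes (tt v) (ss F G) U
  let s₁ := sRes (tt v) (ss F G) U
  let π : U.toScheme ⟶ Spec (CommRingCat.of k) := U.ι ≫ G.hom
  have hπ : t₁ ≫ π = s₁ ≫ π := by
    simp only [t₁, s₁, π, Scheme.Hom.resLE_comp_ι_assoc, tt_hom]
  let Gd := ((eqRel v).restrict U).grpd π hπ
  have hss : Flat (ss F G) ∧ LocallyOfFiniteType (ss F G) ∧ LocallyOfFinitePresentation (ss F G) :=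
    ⟨inferInstanceAs (Flat (pullback.snd F.hom G.hom)), inferInstanceAs (LocallyOfFiniteType (pullback.snd F.hom G.hom)),
      inferInstanceAs (LocallyOfFinitePresentation (pullback.snd F.hom G.hom))⟩
  obtain ⟨_, _, _⟩ := hss
  haveI : Flat Gd.s := inferInstanceAs (Flat s₁)
  haveI : LocallyOfFiniteType Gd.s := inferInstanceAs (LocallyOfFiniteType s₁)
  haveI : QuasiCompact Gd.s := inferInstanceAs (QuasiCompact s₁)
  haveI : LocallyOfFiniteType Gd.pU := inferInstanceAs (LocallyOfFiniteType π)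
  haveI : QuasiCompact Gd.pU :=
    (quasiCompact_iff_compactSpace (f := π)).2 (inferInstanceAs (CompactSpace U.toScheme))
  haveI hm : Mono Gd.j := ⟨fun x y e => by
    have e1 := e =≫ pullback.fst Gd.pU Gd.pU
    have e2 := e =≫ pullback.snd Gd.pU Gd.pU
    simp only [Grpd.GroupoidScheme.j, Category.assoc, pullback.lift_fst, pullback.lift_snd] at e1 e2
    exact ((eqRel v).restrict U).mono x y e1 e2⟩
  haveI : LocallyOfFiniteType Gd.j := by
    haveI : LocallyOfFiniteType (Gd.j ≫ pullback.snd Gd.pU Gd.pU) := by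
      rw [show Gd.j ≫ pullback.snd Gd.pU Gd.pU = Gd.s from pullback.lift_snd _ _ _]; infer_instance
    exact locallyOfFiniteType_of_comp Gd.j (pullback.snd Gd.pU Gd.pU)
  haveI : LocallyQuasiFinite Gd.j := inferInstance
  obtain ⟨W, hW, hWd, V, p, w, q, -, hpq, h1, -, h3, h4, h5, -, -, h8⟩ := Groth.Agent.S4089.result _ Gd
  obtain ⟨hker, hflat⟩ := h8 hm
  haveI := h4
  haveI := h5
  haveI : IsLocallyNoetherian V := LocallyOfFiniteType.isLocallyNoetherian q
  haveI : CompactSpace V := (quasiCompact_iff_compactSpace (f := q)).1 inferInstance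
  haveI : NoetherianSpace V := haveI : IsNoetherian V := {}; inferInstance
  haveI : Surjective p := h1
  haveI : Flat p := hflat
  haveI : LocallyOfFinitePresentation p := h3
  have hQ : IsQ t₁ s₁ W p := @isQ_of_kernelPair _ _ t₁ s₁ W hW _ p h1 hflat h3 hker
  let W' : G.left.Opens := U.ι ''ᵁ W
  have hQ' := isQ_of_restrict hQ
  let e := U.ι.isoImage W
  have he : e.inv ≫ W.ι ≫ U.ι = W'.ι := U.ι.isoImage_inv_ι W
  obtain ⟨A, hA, hAd⟩ := Groth.L20.GenSmooth.exists_dense_isAffineOpen V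
  let P : W'.toScheme.Opens := (e.inv ≫ p) ⁻¹ᵁ A
  let W'' : G.left.Opens := W'.ι ''ᵁ P
  have hmem'' : ∀ z : W'.toScheme, W'.ι z ∈ W'' ↔ (e.inv ≫ p) z ∈ A := fun z => by
    rw [← W'.ι.mem_preimage, Scheme.Hom.preimage_image_eq]; rfl
  obtain ⟨p', hp', hQ''⟩ := hQ'.exists_restrictAny (W'.ι_image_le P)
  have himg : img hQ' W'' = A := by
    refine TopologicalSpace.Opens.ext (Set.ext fun c => ⟨?_, fun hc => ?_⟩)
    · rintro ⟨z, hz, rfl⟩
      exact (hmem'' z).1 hz
    · obtain ⟨z, rfl⟩ := hQ'.surj.surj c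
      exact ⟨z, (hmem'' z).2 hc, rfl⟩
  obtain ⟨W₁, p₁, hle, hW₁, hQ₁⟩ := hQ''.exists_induce (eqRel v)
  obtain ⟨q₁, hq₁⟩ := hQ₁.exists_desc (W₁.ι ≫ G.hom) fun T a b r e1 e2 => by
    rw [← reassoc_of% e1, ← reassoc_of% e2, tt_hom]
  refine ⟨W₁, _, p₁, q₁, hW₁, hQ₁, by rw [himg]; exact hA, hq₁, fun ζ hζ hζU => hle ?_⟩
  have h1 : (⟨ζ, hζU⟩ : U.toScheme) ∈ W := by
    refine Groth.L20.mem_of_dense_of_mem_genericPoints (Y := U.toScheme) W hWd ((Groth.L20.mem_genericPoints_iff _).2 fun z hz => ?_)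
    exact Subtype.ext ((Groth.L20.mem_genericPoints_iff ζ).1 hζ z.1 (hz.map continuous_subtype_val))
  let z : W'.toScheme := ⟨ζ, ⟨⟨ζ, hζU⟩, h1, rfl⟩⟩
  haveI : Flat (e.inv ≫ p) := hQ'.flat
  refine (hmem'' z).2 (Groth.L20.mem_of_dense_of_mem_genericPoints A hAd
    (Groth.L20.apply_mem_genericPoints (e.inv ≫ p) ((Groth.L20.mem_genericPoints_iff _).2 fun x hx => ?_)))
  exact Subtype.ext ((Groth.L20.mem_genericPoints_iff ζ).1 hζ x.1 (hx.map continuous_subtype_val))

/-- Right multiplication by a point `ξ : P → G` on `G ⊗ P`. -/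
def rmul {P : Over (Spec (CommRingCat.of k))} (ξ : P ⟶ G) : G ⊗ P ≅ G ⊗ P where
  hom := CartesianMonoidalCategory.lift (fst G P * (snd G P ≫ ξ)) (snd G P)
  inv := CartesianMonoidalCategory.lift (fst G P * (snd G P ≫ ξ)⁻¹) (snd G P)
  hom_inv_id := by
    refine CartesianMonoidalCategory.hom_ext _ _ ?_ (by simp)
    simp only [Category.assoc, lift_fst, MonObj.comp_mul, GrpObj.comp_inv, lift_snd_assoc, Category.id_comp,
      mul_inv_cancel_right]
  inv_hom_id := by
    refine CartesianMonoidalCategory.hom_ext _ _ ?_ (by simp)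
    simp only [Category.assoc, lift_fst, MonObj.comp_mul, lift_snd_assoc, Category.id_comp,
      inv_mul_cancel_right]

/-- The relation on `G ⊗ P`. -/
def tP (P : Over (Spec (CommRingCat.of k))) : F ⊗ (G ⊗ P) ⟶ G ⊗ P :=
  CartesianMonoidalCategory.lift ((F ◁ fst G P) ≫ tO v) (snd F (G ⊗ P) ≫ snd G P)

theorem isFinite_pts {x : G.left} (hx : IsClosed ({x} : Set G.left)) :
    IsFinite (G.left.fromSpecResidueField x ≫ G.hom) := by
  rw [isClosed_singleton_iff_isClosedImmersion] at hx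
  rw [isFinite_iff_locallyOfFiniteType_of_jacobsonSpace]
  infer_instance

omit [GrpObj F] [GrpObj G] in
theorem exists_affine_of_pt (x : G.left) : ∃ Q : G.left.Opens, IsAffineOpen Q ∧ x ∈ Q := by
  obtain ⟨Q, hQ, hx, -⟩ := Opens.isBasis_iff_nbhd.mp G.left.isBasis_affineOpens (Opens.mem_top x)
  exact ⟨Q, hQ, hx⟩

/-- There is a closed point translating all points over a closed point into a given piece. -/
theorem exists_translate {x : G.left} (hx : IsClosed ({x} : Set G.left)) :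
    ∃ (W : G.left.Opens) (Y : Scheme.{u}) (p : W.toScheme ⟶ Y) (q : Y ⟶ Spec (CommRingCat.of k)),
      Sat (tt v) (ss F G) W ∧ IsQ (tt v) (ss F G) W p ∧ IsAffine Y ∧ p ≫ q = W.ι ≫ G.hom ∧
      ∃ h : G.left, IsClosed ({h} : Set G.left) ∧
        ∀ w : (G ⊗ G).left, (fst G G).left w = x → (snd G G).left w = h → μ[G].left w ∈ W := by
  haveI : IsLocallyNoetherian G.left := LocallyOfFiniteType.isLocallyNoetherian G.hom
  haveI : JacobsonSpace G.left := LocallyOfFiniteType.jacobsonSpace G.hom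
  let P := Groth.L25.Translate.pts x
  let ξ : P ⟶ G := Groth.L25.Translate.pt x
  haveI : IsFinite P.hom := isFinite_pts hx
  let sh : P ⊗ G ⟶ P ⊗ G := CartesianMonoidalCategory.lift (fst P G) ((fst P G ≫ ξ) * snd P G)
  haveI : IsIso sh := ⟨CartesianMonoidalCategory.lift (fst P G) ((fst P G ≫ ξ)⁻¹ * snd P G),
    CartesianMonoidalCategory.hom_ext _ _ (by simp [sh]) (by
      simp only [sh, Category.assoc, lift_snd, MonObj.comp_mul, GrpObj.comp_inv, lift_fst_assoc, Category.id_comp,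
        inv_mul_cancel_left]),
    CartesianMonoidalCategory.hom_ext _ _ (by simp [sh]) (by
      simp only [sh, Category.assoc, lift_snd, MonObj.comp_mul, lift_fst_assoc, Category.id_comp,
        mul_inv_cancel_left])⟩
  haveI : IsIso sh.left := inferInstanceAs (IsIso ((Over.forget _).map sh))
  let mx : (P ⊗ G).left ⟶ G.left := sh.left ≫ (snd P G).left
  let px : (P ⊗ G).left ⟶ G.left := (snd P G).left
  haveI : IsFinite px := MorphismProperty.pullback_snd (P := @IsFinite) P.hom G.hom inferInstance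
  haveI : Flat px := MorphismProperty.pullback_snd (P := @Flat) P.hom G.hom inferInstance
  haveI : Flat mx := inferInstanceAs (Flat (sh.left ≫ px))
  obtain ⟨ζ₀, hζ₀, -⟩ := Groth.L20.exists_genericPoint_specializes x
  obtain ⟨V, hV, hζ₀V⟩ := exists_affine_of_pt ζ₀
  have hB : IsCompact (px ⁻¹ᵁ V : Set (P ⊗ G).left) := QuasiCompact.isCompact_preimage _ V.isOpen hV.isCompact
  obtain ⟨Q, hQc, hBQ, -⟩ := Groth.L20.exists_isCompact_open_between (X := G.left) (hB.image mx.continuous)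
    (W := ⊤) (Set.subset_univ _)
  obtain ⟨W, Y, p, q, hW, hp, hY, hpq, hgen⟩ := exists_affine_piece v Q hQc
  refine ⟨W, Y, p, q, hW, hp, hY, hpq, ?_⟩
  let Ω : Set G.left := (px '' (mx ⁻¹' (W : Set G.left)ᶜ))ᶜ ∩ V
  have hΩ : IsOpen Ω := (px.isClosedMap _ (W.isOpen.isClosed_compl.preimage mx.continuous)).isOpen_compl.inter V.isOpen
  have hζ₀Ω : ζ₀ ∈ Ω := by
    refine ⟨?_, hζ₀V⟩
    rintro ⟨z, hz, hzζ₀⟩
    refine hz (hgen _ (Groth.L20.apply_mem_genericPoints mx ?_) (hBQ ⟨z, show px z ∈ V from hzζ₀ ▸ hζ₀V, rfl⟩))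
    rw [Groth.L20.mem_genericPoints_iff] at hζ₀ ⊢
    intro y hy
    have : px y = ζ₀ := hζ₀ _ (hzζ₀ ▸ hy.map px.continuous)
    exact (px.isDiscrete_preimage_singleton ζ₀).eq_of_specializes hy this hzζ₀
  obtain ⟨h, hhΩ, hh⟩ := nonempty_inter_closedPoints ⟨ζ₀, hζ₀Ω⟩ hΩ.isLocallyClosed
  refine ⟨h, hh, fun w hw1 hw2 => ?_⟩
  let j : P ⊗ G ⟶ G ⊗ G := ξ ⊗ₘ 𝟙 G
  have hw : w ∈ Set.range j.left := by
    rw [Groth.L25.Translate.range_tensorHom]
    refine ⟨?_, ⟨_, rfl⟩⟩
    exact ⟨Groth.L25.Translate.base x, (Groth.L25.Translate.pt_apply x _).trans hw1.symm⟩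
  obtain ⟨z, rfl⟩ := hw
  have e2 : j ≫ snd G G = snd P G := by simp [j]
  have eμ : j ≫ μ[G] = sh ≫ snd P G := by
    rw [lift_snd, Hom.mul_def]
    congr 1
  have h2 : px z = h := (congr(($e2).left z)).symm.trans hw2
  have h3 : mx z = μ[G].left (j.left z) := (congr(($eμ).left z)).symm
  rw [← h3]
  by_contra hn
  exact hhΩ.1 ⟨z, hn, h2⟩

/-- Every closed point lies in a piece. -/
theorem exists_piece {x : G.left} (hx : IsClosed ({x} : Set G.left)) :
    ∃ W : Piece (tt v) (ss F G), x ∈ W.1 := by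
  haveI : IsLocallyNoetherian G.left := LocallyOfFiniteType.isLocallyNoetherian G.hom
  obtain ⟨W, Y, p, q, hW, hp, hY, hpq, h, hh, htr⟩ := exists_translate v hx
  let P := Groth.L25.Translate.pts h
  let ξ : P ⟶ G := Groth.L25.Translate.pt h
  haveI : IsFinite P.hom := isFinite_pts hh
  let θ : CommRingCat.of k ⟶ G.left.residueField h := Spec.preimage (G.left.fromSpecResidueField h ≫ G.hom)
  have hθ : Spec.map θ = P.hom := Spec.map_preimage _
  haveI : IsFinite (Spec.map θ) := hθ ▸ inferInstance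
  haveI : Surjective (Spec.map θ) := hθ ▸ inferInstance
  haveI : LocallyOfFinitePresentation (Spec.map θ) := inferInstance
  let g : (G ⊗ P).left ⟶ G.left := (fst G P).left
  let gR : (F ⊗ (G ⊗ P)).left ⟶ (F ⊗ G).left := (F ◁ fst G P).left
  let π' : (G ⊗ P).left ⟶ Spec (G.left.residueField h) := (snd G P).left
  let t' : (F ⊗ (G ⊗ P)).left ⟶ (G ⊗ P).left := (tP v P).left
  have sq : IsPullback g π' G.hom (Spec.map θ) := hθ.symm ▸ IsPullback.of_hasPullback G.hom P.hom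
  have ht : t' ≫ g = gR ≫ tt v :=
    congrArg CommaMorphism.left (lift_fst ((F ◁ fst G P) ≫ tO v) (snd F (G ⊗ P) ≫ snd G P))
  have hs : ss F (G ⊗ P) ≫ g = gR ≫ ss F G := (congrArg CommaMorphism.left (whiskerLeft_snd F (fst G P))).symm
  have hπ' : t' ≫ π' = ss F (G ⊗ P) ≫ π' :=
    congrArg CommaMorphism.left (lift_snd ((F ◁ fst G P) ≫ tO v) (snd F (G ⊗ P) ≫ snd G P))
  have sqR : IsPullback gR (t' ≫ π') (tt v ≫ G.hom) (Spec.map θ) := by
    rw [hπ', tt_hom]
    refine IsPullback.paste_vert ?_ sq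
    refine IsPullback.of_right ?_ hs.symm (IsPullback.of_hasPullback F.hom G.hom)
    have : gR ≫ pullback.fst F.hom G.hom = pullback.fst F.hom (G ⊗ P).hom :=
      congrArg CommaMorphism.left (whiskerLeft_fst F (fst G P))
    rw [this, show g ≫ G.hom = (G ⊗ P).hom from Over.w (fst G P)]
    exact IsPullback.of_hasPullback F.hom (G ⊗ P).hom
  obtain ⟨p', hp'⟩ := hp.baseChange sq sqR ht hs hπ' q hpq
  let ρ : (G ⊗ P).left ⟶ (G ⊗ P).left := (rmul ξ).hom.left
  let ψ : (F ⊗ (G ⊗ P)).left ⟶ (F ⊗ (G ⊗ P)).left := (F ◁ (rmul ξ).hom).left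
  haveI : IsIso ρ := inferInstanceAs (IsIso ((Over.forget _).map (rmul ξ).hom))
  haveI : IsIso ψ := inferInstanceAs (IsIso ((Over.forget _).map (F ◁ (rmul ξ).hom)))
  have htρ : t' ≫ ρ = ψ ≫ t' := congrArg CommaMorphism.left (show tP v P ≫ (rmul ξ).hom = (F ◁ (rmul ξ).hom) ≫ tP v P by
    refine CartesianMonoidalCategory.hom_ext _ _ ?_ ?_
    · simp only [rmul, tP, tO, Category.assoc, lift_fst, MonObj.comp_mul, whiskerLeft_fst_assoc, whiskerLeft_snd,
        lift_snd_assoc, whiskerLeft_snd_assoc, _root_.mul_assoc]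
    · simp only [rmul, tP, Category.assoc, lift_snd, whiskerLeft_snd_assoc])
  have hsρ : ss F (G ⊗ P) ≫ ρ = ψ ≫ ss F (G ⊗ P) :=
    (congrArg CommaMorphism.left (whiskerLeft_snd F (rmul ξ).hom)).symm
  have hQ₁ := hp'.comap ρ ψ htρ hsρ
  have hO₁ : Sat t' (ss F (G ⊗ P)) (ρ ⁻¹ᵁ (g ⁻¹ᵁ W)) := (hW.preimage_bc ht hs).comap ρ ψ htρ hsρ
  haveI : IsFinite g := MorphismProperty.pullback_fst (P := @IsFinite) G.hom P.hom inferInstance
  obtain ⟨D, hD, hDle, hDx⟩ := exists_core sq sqR ht hs (tt_hom (v := v)) hπ' g.isClosedMap hO₁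
  have hxD : x ∈ D := hDx x fun z hz => by
    let κ : G ⊗ P ⟶ G ⊗ G := CartesianMonoidalCategory.lift (fst G P) (snd G P ≫ ξ)
    have e1 : κ ≫ fst G G = fst G P := lift_fst _ _
    have e2 : κ ≫ snd G G = snd G P ≫ ξ := lift_snd _ _
    have e3 : κ ≫ μ[G] = (rmul ξ).hom ≫ fst G P := by
      rw [rmul, lift_fst, Hom.mul_def]
    show g (ρ z) ∈ W
    have := htr (κ.left z) ((congr(($e1).left z)).trans hz)
      ((congr(($e2).left z)).trans (Groth.L25.Translate.pt_apply h _))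
    exact Eq.subst (motive := fun w => w ∈ W) (congr(($e3).left z)) this
  obtain ⟨Q, hQ, hxQ⟩ := exists_affine_of_pt x
  let W₂ := D ⊓ Q
  have hW₂c : IsCompact (W₂ : Set G.left) := by
    haveI : CompactSpace Q.toScheme := isCompact_iff_compactSpace.1 hQ.isCompact
    haveI : IsNoetherian Q.toScheme := {}
    have hc : IsCompact (Q.ι ⁻¹ᵁ D : Set Q.toScheme) := NoetherianSpace.isCompact _
    have e : (W₂ : Set G.left) = Q.ι '' (Q.ι ⁻¹ᵁ D : Set Q.toScheme) := by
      ext y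
      exact ⟨fun hy => ⟨⟨y, hy.2⟩, hy.1, rfl⟩, by rintro ⟨z, hz, rfl⟩; exact ⟨hz, z.2⟩⟩
    rw [e]
    exact hc.image Q.ι.continuous
  have hle : g ⁻¹ᵁ W₂ ≤ ρ ⁻¹ᵁ (g ⁻¹ᵁ W) := fun z hz => hDle hz.1
  obtain ⟨p₂, -, hp₂⟩ := hQ₁.exists_restrictAny hle
  haveI : IsAffine Y := hY
  haveI : CompactSpace (img hQ₁ (g ⁻¹ᵁ W₂)).toScheme := by
    haveI : CompactSpace (g ⁻¹ᵁ W₂).toScheme :=
      isCompact_iff_compactSpace.1 (QuasiCompact.isCompact_preimage _ W₂.isOpen hW₂c)
    haveI := hp₂.surj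
    exact p₂.surjective.compactSpace p₂.continuous
  haveI : (img hQ₁ (g ⁻¹ᵁ W₂)).toScheme.IsQuasiAffine :=
    Scheme.IsQuasiAffine.of_isImmersion (img hQ₁ (g ⁻¹ᵁ W₂)).ι
  haveI : IsLocallyNoetherian (F ⊗ G).left := LocallyOfFiniteType.isLocallyNoetherian (pullback.snd F.hom G.hom)
  obtain ⟨Y₂, q₂, hq₂⟩ := IsQ.exists_descent sq sqR ht hs (tt_hom (v := v)) hπ' (mono_rel (v := v)) hW₂c
    (isCompact_bothEnds v W₂ hW₂c) hp₂
  obtain ⟨_, _⟩ := tt_props v
  haveI : Flat (ss F G) := inferInstanceAs (Flat (pullback.snd F.hom G.hom))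
  haveI : LocallyOfFinitePresentation (ss F G) :=
    inferInstanceAs (LocallyOfFinitePresentation (pullback.snd F.hom G.hom))
  obtain ⟨W₃, p₃, hle₃, hW₃, hQ₃⟩ := hq₂.exists_induce (eqRel v)
  exact ⟨⟨W₃, hW₃, Y₂, p₃, hQ₃⟩, hle₃ ⟨hxD, hxQ⟩⟩

/-- The quotient of a group scheme over a field by a quasi-compact subgroup. -/
theorem exists_quotient_field : ∃ (Y : Scheme.{u}) (p : G.left ⟶ Y), Surjective p ∧ Flat p ∧
    LocallyOfFinitePresentation p ∧ IsPullback (tt v) (ss F G) p p := by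
  haveI : JacobsonSpace G.left := LocallyOfFiniteType.jacobsonSpace G.hom
  have hc : ∀ x : G.left, ∃ W : Piece (tt v) (ss F G), x ∈ W.1 := by
    by_contra hne
    push Not at hne
    obtain ⟨x, hx⟩ := hne
    let O : Set G.left := ⋃ W : Piece (tt v) (ss F G), (W.1 : Set G.left)
    obtain ⟨y, hy, hyc⟩ := nonempty_inter_closedPoints (Z := Oᶜ) ⟨x, by simpa [O] using hx⟩
      (isOpen_iUnion fun W => W.1.isOpen).isClosed_compl.isLocallyClosed
    obtain ⟨W, hW⟩ := exists_piece v hyc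
    exact hy (Set.mem_iUnion.2 ⟨W, hW⟩)
  obtain ⟨Y, p, hp⟩ := exists_quotient hc (mono_rel (v := v))
  obtain ⟨q, h⟩ := hp.exists_global (mono_rel (v := v))
  exact ⟨Y, q, h⟩

end Groth.L08.GQuot
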