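import Groth.Agent.L08.GQuot.Act
import Groth.Agent.L25.Actions
import Groth.Agent.L25.Translate
import Groth.Agent.L23.FppfSmooth
import Mathlib.AlgebraicGeometry.Morphisms.Proper

/-!
# Structure of a quotient by a subgroup
-/

set_option autoImplicit false
set_option backward.isDefEq.respectTransparency.types false
set_option linter.style.haveILetI false

universe u

open CategoryTheory CategoryTheory.Limits MonoidalCategory CartesianMonoidalCategory MonObj AlgebraicGeometry TopologicalSpace

noncomputable section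

namespace Groth.L08.GQuot

variable {S : Scheme.{u}} {F G : Over S} [GrpObj F] [GrpObj G] {v : F ⟶ G}

theorem cover_tensor {X : Over S} (q : G ⟶ X) [Surjective q.left] [Flat q.left] [LocallyOfFinitePresentation q.left]
    (T : Over S) : (Surjective (q ▷ T).left ∧ Flat (q ▷ T).left ∧ LocallyOfFinitePresentation (q ▷ T).left) ∧
      (Surjective (T ◁ q).left ∧ Flat (T ◁ q).left ∧ LocallyOfFinitePresentation (T ◁ q).left) :=
  ⟨⟨Groth.L25.Actions.of_whiskerRight @Surjective q T inferInstance,
    Groth.L25.Actions.of_whiskerRight @Flat q T inferInstance,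
    Groth.L25.Actions.of_whiskerRight @LocallyOfFinitePresentation q T inferInstance⟩,
   ⟨Groth.L25.Actions.of_whiskerLeft @Surjective T q inferInstance,
    Groth.L25.Actions.of_whiskerLeft @Flat T q inferInstance,
    Groth.L25.Actions.of_whiskerLeft @LocallyOfFinitePresentation T q inferInstance⟩⟩

theorem cover_tensor₂ {X : Over S} (q : G ⟶ X) [Surjective q.left] [Flat q.left] [LocallyOfFinitePresentation q.left] :
    Surjective (q ⊗ₘ q).left ∧ Flat (q ⊗ₘ q).left ∧ LocallyOfFinitePresentation (q ⊗ₘ q).left := by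
  rw [MonoidalCategory.tensorHom_def, Over.comp_left]
  obtain ⟨⟨_, _, _⟩, -⟩ := cover_tensor q G
  obtain ⟨-, ⟨_, _, _⟩⟩ := cover_tensor q X
  exact ⟨inferInstance, inferInstance, inferInstance⟩

/-- Epimorphisms of `Over S` from covers. -/
theorem epi_of_cover {A B : Over S} (f : A ⟶ B) [Surjective f.left] [Flat f.left]
    [LocallyOfFinitePresentation f.left] : Epi f := by
  haveI : EffectiveEpi f.left := inferInstance
  haveI : Epi f.left := inferInstance
  exact Over.epi_of_epi_left f

/-- The properties of a quotient of a group scheme by a subgroup. -/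
theorem exists_struct [IsMonHom v] [Mono v] {Y : Scheme.{u}} (p : G.left ⟶ Y) [Surjective p] [Flat p]
    [LocallyOfFinitePresentation p] (sq : IsPullback (tt v) (ss F G) p p) :
    ∃ (X : Over S) (q : G ⟶ X), Surjective q.left ∧ Flat q.left ∧ LocallyOfFinitePresentation q.left ∧
      IsPullback ((v ▷ G) ≫ μ[G]) (snd F G) q q ∧
      (LocallyOfFiniteType G.hom → LocallyOfFiniteType X.hom) ∧ (Flat G.hom → Flat X.hom) ∧
      (QuasiCompact G.hom → QuasiCompact X.hom) ∧ (Smooth G.hom → Smooth X.hom) ∧
      (IsClosedImmersion v.left → IsSeparated X.hom) := by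
  haveI : EffectiveEpi p := inferInstance
  obtain ⟨h, hh⟩ : ∃ h : Y ⟶ S, p ≫ h = G.hom :=
    ⟨EffectiveEpi.desc p G.hom fun a b e => by
      obtain ⟨r, h1, h2⟩ := sq.exists_lift a b e
      rw [← h1, ← h2, Category.assoc, Category.assoc, tt_hom], EffectiveEpi.fac _ _ _⟩
  let X : Over S := Over.mk h
  let q : G ⟶ X := Over.homMk p hh
  haveI : Surjective q.left := ‹Surjective p›
  haveI : Flat q.left := ‹Flat p›
  haveI : LocallyOfFinitePresentation q.left := ‹LocallyOfFinitePresentation p›
  refine ⟨X, q, inferInstance, inferInstance, inferInstance, ?_, fun hG => ?_, fun hG => ?_, fun hG => ?_,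
    fun hG => ?_, fun hv => ?_⟩
  · rw [← tO_eq]
    exact IsPullback.of_map (Over.forget S) (Over.OverMorphism.ext sq.w) sq
  · exact Groth.L24.Alg.locallyOfFiniteType_of_fppf_comp p h (hh ▸ hG)
  · haveI : Flat (p ≫ h) := hh ▸ hG
    exact Groth.L25.Translate.flat_of_comp p h
  · haveI : QuasiCompact (p ≫ h) := hh ▸ hG
    refine (quasiCompact_iff h).2 fun U hU hU' => ?_
    have := (QuasiCompact.isCompact_preimage (f := p ≫ h) U hU hU').image p.continuous
    rwa [show (p ≫ h).base ⁻¹' U = p.base ⁻¹' (h.base ⁻¹' U) from rfl,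
      Set.image_preimage_eq _ p.surjective] at this
  · exact Groth.L23.FppfSmooth.smooth_of_fppf_comp p h (hh ▸ hG)
  · let e : G ⊗ G ⟶ G ⊗ G := CartesianMonoidalCategory.lift (fst G G * snd G G) (snd G G)
    haveI : IsIso e := ⟨CartesianMonoidalCategory.lift (fst G G * (snd G G)⁻¹) (snd G G),
      CartesianMonoidalCategory.hom_ext _ _ (by
        simp only [e, Category.assoc, lift_fst, MonObj.comp_mul, GrpObj.comp_inv, lift_snd, Category.id_comp,
          mul_inv_cancel_right]) (by simp [e]),
      CartesianMonoidalCategory.hom_ext _ _ (by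
        simp only [e, Category.assoc, lift_fst, MonObj.comp_mul, lift_snd, Category.id_comp,
          inv_mul_cancel_right]) (by simp [e])⟩
    let j : F ⊗ G ⟶ G ⊗ G := (v ▷ G) ≫ e
    have hj1 : j ≫ fst G G = tO v := by
      simp only [j, e, tO, Category.assoc, lift_fst, MonObj.comp_mul, whiskerRight_fst, whiskerRight_snd]
    have hj2 : j ≫ snd G G = snd F G := by simp [j, e]
    haveI : IsClosedImmersion j.left := by
      haveI : IsIso e.left := inferInstanceAs (IsIso ((Over.forget _).map e))
      haveI : IsClosedImmersion (v ▷ G).left := Groth.L25.Actions.of_whiskerRight @IsClosedImmersion v G hv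
      rw [Over.comp_left]
      infer_instance
    obtain ⟨_, _, _⟩ := cover_tensor₂ q
    let d : Y ⟶ pullback h h := pullback.diagonal h
    have sqd : IsPullback j.left (tt v ≫ p) (q ⊗ₘ q).left d := by
      have a1 : (q ⊗ₘ q).left ≫ pullback.fst h h = (fst G G).left ≫ p :=
        congrArg CommaMorphism.left (tensorHom_fst q q)
      have a2 : (q ⊗ₘ q).left ≫ pullback.snd h h = (snd G G).left ≫ p :=
        congrArg CommaMorphism.left (tensorHom_snd q q)
      have b1 : j.left ≫ (fst G G).left = tt v := congrArg CommaMorphism.left hj1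
      have b2 : j.left ≫ (snd G G).left = ss F G := congrArg CommaMorphism.left hj2
      refine IsPullback.mk' ?_ (fun T x y e1 _ => mono_rel (v := v) x y ?_ ?_) (fun T a b e1 => ?_)
      · apply pullback.hom_ext (f := h) (g := h)
        · simp only [Category.assoc, a1, d, pullback.diagonal_fst, Category.comp_id, reassoc_of% b1]
        · simp only [Category.assoc, a2, d, pullback.diagonal_snd, Category.comp_id, reassoc_of% b2]
          exact sq.w.symm
      · rw [← b1, reassoc_of% e1]
      · rw [← b2, reassoc_of% e1]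
      · have c1 := e1 =≫ pullback.fst h h
        have c2 := e1 =≫ pullback.snd h h
        simp only [Category.assoc, a1, a2, d, pullback.diagonal_fst, pullback.diagonal_snd, Category.comp_id] at c1 c2
        obtain ⟨r, r1, r2⟩ := sq.exists_lift (a ≫ (fst G G).left) (a ≫ (snd G G).left)
          (by rw [Category.assoc, Category.assoc, c1, c2])
        refine ⟨r, ?_, by rw [reassoc_of% r1, c1]⟩
        apply pullback.hom_ext
        · exact (Category.assoc _ _ _).trans ((congrArg (r ≫ ·) b1).trans r1)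
        · exact (Category.assoc _ _ _).trans ((congrArg (r ≫ ·) b2).trans r2)
    haveI : UniversallyClosed d :=
      MorphismProperty.of_isPullback_of_descendsAlong (P := @UniversallyClosed)
        (Q := @Surjective ⊓ @Flat ⊓ @LocallyOfFinitePresentation) sqd
        ⟨⟨inferInstance, inferInstance⟩, inferInstance⟩ inferInstance
    haveI : LocallyOfFiniteType d := inferInstance
    haveI : IsProper d := {}
    exact ⟨(IsClosedImmersion.iff_isProper_and_mono d).2 ⟨inferInstance, inferInstance⟩⟩

/-- The quotient by a normal subgroup is a group. -/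
theorem exists_grp [IsMonHom v] [Mono v] (hN : AlgGrp.IsNormalHom v) {X : Over S} (q : G ⟶ X)
    [Surjective q.left] [Flat q.left] [LocallyOfFinitePresentation q.left]
    (sq : IsPullback ((v ▷ G) ≫ μ[G]) (snd F G) q q) :
    ∃ _ : GrpObj X, IsMonHom q ∧ AlgGrp.IsKernel v q := by
  have rel : ∀ {T : Over S} (a b : T ⟶ G), a ≫ q = b ≫ q ↔ ∃ f : T ⟶ F, a = (f ≫ v) * b := fun {T} a b => by
    constructor
    · intro e
      obtain ⟨r, r1, r2⟩ := sq.exists_lift a b e
      refine ⟨r ≫ fst F G, ?_⟩
      rw [← r1, ← r2, ← tO_eq, tO, MonObj.comp_mul, Category.assoc]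
    · rintro ⟨f, rfl⟩
      have h1 : CartesianMonoidalCategory.lift f b ≫ ((v ▷ G) ≫ μ[G]) = (f ≫ v) * b := by
        rw [← tO_eq, tO, MonObj.comp_mul, lift_fst_assoc, lift_snd]
      rw [← h1, Category.assoc, sq.w, lift_snd_assoc]
  obtain ⟨_, _, _⟩ := cover_tensor₂ q
  haveI : EffectiveEpi (q ⊗ₘ q).left := inferInstance
  haveI : EffectiveEpi q.left := inferInstance
  have dsc : ∀ {A B Z : Over S} (c : A ⟶ B) [EffectiveEpi c.left] (f : A ⟶ Z),
      (∀ {T : Over S} (a b : T ⟶ A), a ≫ c = b ≫ c → a ≫ f = b ≫ f) → ∃ g : B ⟶ Z, c ≫ g = f := by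
    intro A B Z c _ f hf
    have hf' : ∀ {T : Scheme.{u}} (a b : T ⟶ A.left), a ≫ c.left = b ≫ c.left → a ≫ f.left = b ≫ f.left := by
      intro T a b e
      let a' : Over.mk (a ≫ A.hom) ⟶ A := Over.homMk a
      let b' : Over.mk (a ≫ A.hom) ⟶ A := Over.homMk b (by
        show b ≫ A.hom = a ≫ A.hom
        rw [← Over.w c, reassoc_of% e])
      exact congrArg CommaMorphism.left (hf a' b' (Over.OverMorphism.ext e))
    let d := EffectiveEpi.desc c.left f.left fun {T} a b e => hf' a b e
    have hd : c.left ≫ d = f.left := EffectiveEpi.fac _ _ _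
    have hw : d ≫ Z.hom = B.hom := by
      rw [← cancel_epi c.left, reassoc_of% hd, Over.w, Over.w]
    exact ⟨Over.homMk d hw, Over.OverMorphism.ext hd⟩
  obtain ⟨m, hm⟩ := dsc (q ⊗ₘ q) (μ[G] ≫ q) fun {T} a b e => by
    have e1 := e =≫ fst X X
    have e2 := e =≫ snd X X
    simp only [Category.assoc, tensorHom_fst, tensorHom_snd] at e1 e2
    obtain ⟨f₁, h₁⟩ := (rel (a ≫ fst G G) (b ≫ fst G G)).1 (by simpa only [Category.assoc] using e1)
    obtain ⟨f₂, h₂⟩ := (rel (a ≫ snd G G) (b ≫ snd G G)).1 (by simpa only [Category.assoc] using e2)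
    obtain ⟨f₂', h₂'⟩ := hN T (b ≫ fst G G) f₂
    rw [← Category.assoc, ← Category.assoc, rel]
    refine ⟨f₁ * f₂', ?_⟩
    have hμ : ∀ c : T ⟶ G ⊗ G, c ≫ μ[G] = (c ≫ fst G G) * (c ≫ snd G G) := fun c => by
      rw [Hom.mul_def, lift_comp_fst_snd]
    rw [hμ, hμ, h₁, h₂, MonObj.mul_comp, ← h₂']
    group
  obtain ⟨ν, hν⟩ := dsc q (GrpObj.inv (X := G) ≫ q) fun {T} a b e => by
    obtain ⟨f, hf⟩ := (rel a b).1 e
    obtain ⟨f', hf'⟩ := hN T b⁻¹ (f⁻¹)
    rw [← Category.assoc, ← Category.assoc, rel]
    refine ⟨f', ?_⟩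
    rw [← Hom.inv_def, ← Hom.inv_def, hf, ← hf', GrpObj.inv_comp]
    group
  haveI : Epi (q ⊗ₘ q) := epi_of_cover _
  haveI : Epi q := epi_of_cover _
  letI gX : GrpObj X :=
    { one := η[G] ≫ q
      mul := m
      one_mul := by
        haveI : Epi (𝟙_ (Over S) ◁ q) := by
          obtain ⟨-, ⟨_, _, _⟩⟩ := cover_tensor q (𝟙_ (Over S))
          exact epi_of_cover _
        rw [← cancel_epi (𝟙_ (Over S) ◁ q)]
        have : (𝟙_ (Over S) ◁ q) ≫ ((η[G] ≫ q) ▷ X) = (η[G] ▷ G) ≫ (q ⊗ₘ q) := by
          rw [← tensorHom_id, ← id_tensorHom, ← tensorHom_id, tensorHom_comp_tensorHom, tensorHom_comp_tensorHom,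
            Category.id_comp, Category.comp_id, Category.id_comp]
        rw [reassoc_of% this, hm, MonObj.one_mul_assoc, leftUnitor_naturality]
      mul_one := by
        haveI : Epi (q ▷ 𝟙_ (Over S)) := by
          obtain ⟨⟨_, _, _⟩, -⟩ := cover_tensor q (𝟙_ (Over S))
          exact epi_of_cover _
        rw [← cancel_epi (q ▷ 𝟙_ (Over S))]
        have : (q ▷ 𝟙_ (Over S)) ≫ (X ◁ (η[G] ≫ q)) = (G ◁ η[G]) ≫ (q ⊗ₘ q) := by
          rw [← tensorHom_id, ← id_tensorHom, ← id_tensorHom, tensorHom_comp_tensorHom, tensorHom_comp_tensorHom,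
            Category.id_comp, Category.comp_id, Category.id_comp]
        rw [reassoc_of% this, hm, MonObj.mul_one_assoc, rightUnitor_naturality]
      mul_assoc := by
        haveI : Epi ((q ⊗ₘ q) ⊗ₘ q) := by
          rw [MonoidalCategory.tensorHom_def]
          haveI : Epi ((q ⊗ₘ q) ▷ G) := by
            haveI : Surjective ((q ⊗ₘ q) ▷ G).left := Groth.L25.Actions.of_whiskerRight @Surjective _ G inferInstance
            haveI : Flat ((q ⊗ₘ q) ▷ G).left := Groth.L25.Actions.of_whiskerRight @Flat _ G inferInstance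
            haveI : LocallyOfFinitePresentation ((q ⊗ₘ q) ▷ G).left :=
              Groth.L25.Actions.of_whiskerRight @LocallyOfFinitePresentation _ G inferInstance
            exact epi_of_cover _
          haveI : Epi ((X ⊗ X) ◁ q) := by
            obtain ⟨-, ⟨_, _, _⟩⟩ := cover_tensor q (X ⊗ X)
            exact epi_of_cover _
          exact epi_comp _ _
        rw [← cancel_epi ((q ⊗ₘ q) ⊗ₘ q)]
        have l : ((q ⊗ₘ q) ⊗ₘ q) ≫ (m ▷ X) = (μ[G] ▷ G) ≫ (q ⊗ₘ q) := by
          rw [← tensorHom_id, ← tensorHom_id, tensorHom_comp_tensorHom, tensorHom_comp_tensorHom, hm,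
            Category.id_comp, Category.comp_id]
        have r : (q ⊗ₘ (q ⊗ₘ q)) ≫ (X ◁ m) = (G ◁ μ[G]) ≫ (q ⊗ₘ q) := by
          rw [← id_tensorHom, ← id_tensorHom, tensorHom_comp_tensorHom, tensorHom_comp_tensorHom, hm,
            Category.id_comp, Category.comp_id]
        rw [reassoc_of% l, hm, associator_naturality_assoc, reassoc_of% r, hm, MonObj.mul_assoc_assoc]
      inv := ν
      left_inv := by
        rw [← cancel_epi q, comp_lift_assoc, hν, Category.comp_id,
          show CartesianMonoidalCategory.lift (GrpObj.inv (X := G) ≫ q) q =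
            CartesianMonoidalCategory.lift (GrpObj.inv (X := G)) (𝟙 G) ≫ (q ⊗ₘ q) by
            rw [lift_map, Category.id_comp], Category.assoc, hm, GrpObj.left_inv_assoc, ← Category.assoc q,
          comp_toUnit]
      right_inv := by
        rw [← cancel_epi q, comp_lift_assoc, hν, Category.comp_id,
          show CartesianMonoidalCategory.lift q (GrpObj.inv (X := G) ≫ q) =
            CartesianMonoidalCategory.lift (𝟙 G) (GrpObj.inv (X := G)) ≫ (q ⊗ₘ q) by
            rw [lift_map, Category.id_comp], Category.assoc, hm, GrpObj.right_inv_assoc, ← Category.assoc q,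
          comp_toUnit] }
  have hq : IsMonHom q := ⟨rfl, hm.symm⟩
  refine ⟨gX, hq, ?_⟩
  refine IsPullback.mk' ?_ (fun T a b e _ => (cancel_mono v).1 e) (fun T a b e => ?_)
  · rw [show η[X] = η[G] ≫ q from rfl, ← Category.assoc, rel]
    refine ⟨𝟙 F, ?_⟩
    rw [Category.id_comp, ← Hom.one_def, _root_.mul_one]
  · rw [show η[X] = η[G] ≫ q from rfl, ← Category.assoc] at e
    obtain ⟨f, hf⟩ := (rel _ _).1 e
    refine ⟨f, ?_, toUnit_unique _ _⟩
    rw [hf, toUnit_unique b (toUnit T), ← Hom.one_def, _root_.mul_one]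

end Groth.L08.GQuot
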