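import Groth.Agent.L08.GQuot.Induce
import Groth.Prelude.Def_AlgGrp
import Groth.Agent.L25.Actions
import Groth.Agent.L25.Translate
import Mathlib.AlgebraicGeometry.Morphisms.Finite

/-!
# The relation of a subgroup acting by left translations
-/

set_option autoImplicit false
set_option backward.isDefEq.respectTransparency.types false

universe u

open CategoryTheory CategoryTheory.Limits MonoidalCategory CartesianMonoidalCategory MonObj AlgebraicGeometry TopologicalSpace

noncomputable section

namespace Groth.L08.GQuot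

variable {S : Scheme.{u}} {F G : Over S} [GrpObj F] [GrpObj G] (v : F ⟶ G)

/-- `(f, g) ↦ v f * g`. -/
def tO : F ⊗ G ⟶ G := (fst F G ≫ v) * snd F G

theorem tO_eq : tO v = (v ▷ G) ≫ μ[G] := by
  rw [tO, Hom.mul_def]
  congr 1

/-- target of the relation. -/
abbrev tt : (F ⊗ G).left ⟶ G.left := (tO v).left

/-- source of the relation. -/
abbrev ss (F G : Over S) : (F ⊗ G).left ⟶ G.left := (snd F G).left

variable {v}

theorem over_hom (r : (F ⊗ G).left) : G.hom (ss F G r) = (F ⊗ G).hom r := by
  rw [← Scheme.Hom.comp_apply, Over.w]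

theorem tt_hom : tt v ≫ G.hom = ss F G ≫ G.hom := (Over.w (tO v)).trans (Over.w (snd F G)).symm

theorem ext_hom [Mono v] {T : Over S} {a b : T ⟶ F ⊗ G} (h1 : a ≫ tO v = b ≫ tO v)
    (h2 : a ≫ snd F G = b ≫ snd F G) : a = b := by
  simp only [tO, MonObj.comp_mul] at h1
  rw [h2, mul_left_inj, ← Category.assoc, ← Category.assoc, cancel_mono] at h1
  exact CartesianMonoidalCategory.hom_ext _ _ h1 h2

theorem mono_rel [Mono v] ⦃T : Scheme.{u}⦄ (r r' : T ⟶ (F ⊗ G).left) (h1 : r ≫ tt v = r' ≫ tt v)
    (h2 : r ≫ ss F G = r' ≫ ss F G) : r = r' := by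
  have w : r' ≫ (F ⊗ G).hom = r ≫ (F ⊗ G).hom := by
    rw [← Over.w (snd F G)]; exact ((reassoc_of% h2) _).symm
  let a : Over.mk (r ≫ (F ⊗ G).hom) ⟶ F ⊗ G := Over.homMk r
  let b : Over.mk (r ≫ (F ⊗ G).hom) ⟶ F ⊗ G := Over.homMk r' w
  exact congrArg CommaMorphism.left
    (ext_hom (v := v) (a := a) (b := b) (Over.OverMorphism.ext h1) (Over.OverMorphism.ext h2))

variable (v) [IsMonHom v]

/-- The shear automorphism carrying the source to the target. -/
def shr : F ⊗ G ≅ F ⊗ G where
  hom := CartesianMonoidalCategory.lift (fst F G) (tO v)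
  inv := CartesianMonoidalCategory.lift (fst F G) ((fst F G ≫ v)⁻¹ * snd F G)
  hom_inv_id := by
    refine CartesianMonoidalCategory.hom_ext _ _ ?_ ?_
    · simp
    · simp only [Category.assoc, lift_snd, MonObj.comp_mul, GrpObj.comp_inv, lift_fst_assoc, Category.id_comp, tO,
        inv_mul_cancel_left]
  inv_hom_id := by
    refine CartesianMonoidalCategory.hom_ext _ _ ?_ ?_
    · simp
    · simp only [Category.assoc, lift_snd, MonObj.comp_mul, lift_fst_assoc, Category.id_comp, tO,
        mul_inv_cancel_left]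

theorem shr_hom_snd : (shr v).hom ≫ snd F G = tO v := lift_snd _ _

theorem tt_prop (P : MorphismProperty Scheme.{u}) [P.RespectsIso] (h : P (ss F G)) : P (tt v) := by
  have e : tt v = (shr v).hom.left ≫ ss F G := congrArg CommaMorphism.left (shr_hom_snd v).symm
  haveI : IsIso (shr v).hom.left := inferInstanceAs (IsIso ((Over.forget _).map (shr v).hom))
  rw [e]
  exact (P.cancel_left_of_respectsIso _ _).2 h

/-- Left translations by a subgroup form an equivalence relation. -/
theorem eqRel [Mono v] : EqRel (tt v) (ss F G) where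
  refl := by
    let e : G ⟶ F ⊗ G := CartesianMonoidalCategory.lift 1 (𝟙 G)
    have e1 : e ≫ tO v = 𝟙 G := by
      simp only [e, tO, MonObj.comp_mul, lift_fst_assoc, lift_snd, MonObj.one_comp, _root_.one_mul]
    exact ⟨e.left, congrArg CommaMorphism.left e1, congrArg CommaMorphism.left (lift_snd (1 : G ⟶ F) (𝟙 G))⟩
  symm T r := by
    let i : F ⊗ G ⟶ F ⊗ G := CartesianMonoidalCategory.lift (fst F G)⁻¹ (tO v)
    have e1 : i ≫ tO v = snd F G := by
      simp only [i, tO, MonObj.comp_mul, lift_fst_assoc, lift_snd, GrpObj.inv_comp, inv_mul_cancel_left]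
    have e2 : i ≫ snd F G = tO v := lift_snd _ _
    exact ⟨r ≫ i.left, (Category.assoc _ _ _).trans congr(r ≫ ($e1).left),
      (Category.assoc _ _ _).trans congr(r ≫ ($e2).left)⟩
  trans T r₁ r₂ h := by
    let T' : Over S := Over.mk (r₁ ≫ (F ⊗ G).hom)
    let a : T' ⟶ F ⊗ G := Over.homMk r₁
    let b : T' ⟶ F ⊗ G := Over.homMk r₂ (by
      show r₂ ≫ (F ⊗ G).hom = r₁ ≫ (F ⊗ G).hom
      rw [← Over.w (tO v), ← reassoc_of% h, Over.w, Over.w])
    have hab : a ≫ snd F G = b ≫ tO v := Over.OverMorphism.ext h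
    let c : T' ⟶ F ⊗ G := CartesianMonoidalCategory.lift ((a ≫ fst F G) * (b ≫ fst F G)) (b ≫ snd F G)
    have e1 : c ≫ tO v = a ≫ tO v := by
      simp only [tO, MonObj.comp_mul] at hab ⊢
      simp only [c, lift_fst_assoc, lift_snd, MonObj.mul_comp, Category.assoc, _root_.mul_assoc, hab]
    exact ⟨c.left, congrArg CommaMorphism.left e1,
      congrArg CommaMorphism.left (lift_snd ((a ≫ fst F G) * (b ≫ fst F G)) (b ≫ snd F G))⟩
  mono _ r r' h1 h2 := mono_rel r r' h1 h2

/-- The arrows with both ends in a quasi-compact open are quasi-compact. -/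
theorem isCompact_bothEnds [IsAffine S] [Mono v] [QuasiCompact v.left] (U : G.left.Opens) (hU : IsCompact (U : Set G.left)) :
    IsCompact ((bothEnds (tt v) (ss F G) U : (F ⊗ G).left.Opens) : Set (F ⊗ G).left) := by
  let e : G ⊗ G ⟶ G ⊗ G := CartesianMonoidalCategory.lift (fst G G * snd G G) (snd G G)
  haveI : IsIso e := ⟨CartesianMonoidalCategory.lift (fst G G * (snd G G)⁻¹) (snd G G),
    CartesianMonoidalCategory.hom_ext _ _ (by
      simp only [e, Category.assoc, lift_fst, MonObj.comp_mul, GrpObj.comp_inv, lift_snd, Category.id_comp,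
        mul_inv_cancel_right]) (by simp [e]),
    CartesianMonoidalCategory.hom_ext _ _ (by
      simp only [e, Category.assoc, lift_fst, MonObj.comp_mul, lift_snd, Category.id_comp,
        inv_mul_cancel_right]) (by simp [e])⟩
  haveI : IsIso e.left := inferInstanceAs (IsIso ((Over.forget _).map e))
  haveI : QuasiCompact (v ▷ G).left := Groth.L25.Actions.of_whiskerRight @QuasiCompact v G inferInstance
  let j : (F ⊗ G).left ⟶ (G ⊗ G).left := (v ▷ G).left ≫ e.left
  haveI : QuasiCompact j := inferInstanceAs (QuasiCompact ((v ▷ G).left ≫ e.left))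
  have h1 : (v ▷ G) ≫ e ≫ fst G G = tO v := by
    simp only [e, tO, lift_fst, MonObj.comp_mul, whiskerRight_fst, whiskerRight_snd]
  have h2 : (v ▷ G) ≫ e ≫ snd G G = snd F G := by simp [e]
  have j1 : j ≫ (fst G G).left = tt v := (Category.assoc _ _ _).trans (congrArg CommaMorphism.left h1)
  have j2 : j ≫ (snd G G).left = ss F G := (Category.assoc _ _ _).trans (congrArg CommaMorphism.left h2)
  let Q : (G ⊗ G).left.Opens := (fst G G).left ⁻¹ᵁ U ⊓ (snd G G).left ⁻¹ᵁ U
  have hQ : IsCompact (Q : Set (G ⊗ G).left) := by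
    let X : Over S := Over.mk (U.ι ≫ G.hom)
    let i : X ⟶ G := Over.homMk U.ι
    haveI : CompactSpace U.toScheme := isCompact_iff_compactSpace.1 hU
    haveI : QuasiCompact X.hom := (quasiCompact_iff_compactSpace (f := X.hom)).2 (inferInstanceAs (CompactSpace U.toScheme))
    haveI : CompactSpace (X ⊗ X).left := by
      haveI : QuasiCompact (X ⊗ X).hom := inferInstanceAs (QuasiCompact (pullback.fst X.hom X.hom ≫ X.hom))
      exact (quasiCompact_iff_compactSpace (f := (X ⊗ X).hom)).1 inferInstance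
    have e : (Q : Set (G ⊗ G).left) = Set.range (i ⊗ₘ i).left := by
      rw [Groth.L25.Translate.range_tensorHom, show Set.range i.left = (U : Set G.left) from U.range_ι]
      rfl
    rw [e]
    exact isCompact_range (i ⊗ₘ i).left.continuous
  have e : bothEnds (tt v) (ss F G) U = j ⁻¹ᵁ Q := by
    rw [Scheme.Hom.preimage_inf, ← Scheme.Hom.comp_preimage, ← Scheme.Hom.comp_preimage, j1, j2]
  rw [e]
  exact QuasiCompact.isCompact_preimage _ Q.isOpen hQ

end Groth.L08.GQuot
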