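import Mathlib.AlgebraicGeometry.EffectiveEpi
import Mathlib.AlgebraicGeometry.Sites.Fpqc
import Mathlib.AlgebraicGeometry.Morphisms.UniversallyOpen
import Mathlib.AlgebraicGeometry.Morphisms.FlatDescent
import Mathlib.AlgebraicGeometry.Morphisms.LocalFlatDescent

/-!
# fppf quotients of saturated opens for a pair of morphisms `t, s : R ⇉ U`
-/

set_option autoImplicit false
set_option backward.isDefEq.respectTransparency.types false

universe u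

open CategoryTheory CategoryTheory.Limits AlgebraicGeometry TopologicalSpace

noncomputable section

namespace Groth.L08.GQuot

variable {U R : Scheme.{u}} (t s : R ⟶ U)

/-- An open of `U` is saturated for `t, s : R ⇉ U`. -/
def Sat (W : U.Opens) : Prop := t ⁻¹ᵁ W = s ⁻¹ᵁ W

/-- `p` is an fppf quotient of the open `W` by the relation of `t, s`. -/
structure IsQ (W : U.Opens) {Y : Scheme.{u}} (p : W.toScheme ⟶ Y) : Prop where
  surj : Surjective p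
  flat : Flat p
  lfp : LocallyOfFinitePresentation p
  eq_iff : ∀ ⦃T : Scheme.{u}⦄ (a b : T ⟶ W.toScheme),
    a ≫ p = b ≫ p ↔ ∃ r : T ⟶ R, r ≫ t = a ≫ W.ι ∧ r ≫ s = b ≫ W.ι

variable {t s}

theorem Sat.mem_iff {W : U.Opens} (h : Sat t s W) (r : R) : t r ∈ W ↔ s r ∈ W :=
  ⟨fun hr => h.le hr, fun hr => h.ge hr⟩

theorem Sat.inf {W W' : U.Opens} (h : Sat t s W) (h' : Sat t s W') : Sat t s (W ⊓ W') := by
  show t ⁻¹ᵁ (W ⊓ W') = s ⁻¹ᵁ (W ⊓ W')
  rw [Scheme.Hom.preimage_inf, Scheme.Hom.preimage_inf, h, h']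

theorem Sat.iSup {ι : Sort*} {W : ι → U.Opens} (h : ∀ i, Sat t s (W i)) : Sat t s (⨆ i, W i) := by
  show t ⁻¹ᵁ (⨆ i, W i) = s ⁻¹ᵁ (⨆ i, W i)
  rw [Scheme.Hom.preimage_iSup, Scheme.Hom.preimage_iSup]
  exact iSup_congr h

theorem sat_top : Sat t s ⊤ := rfl

theorem isOpenMap_of_isQ {W : U.Opens} {Y : Scheme.{u}} {p : W.toScheme ⟶ Y} (hp : IsQ t s W p) :
    IsOpenMap p := by
  haveI := hp.flat
  haveI := hp.lfp
  exact p.isOpenMap

theorem effectiveEpi_of_isQ {W : U.Opens} {Y : Scheme.{u}} {p : W.toScheme ⟶ Y} (hp : IsQ t s W p) :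
    EffectiveEpi p := by
  haveI := hp.surj
  haveI := hp.flat
  haveI := hp.lfp
  infer_instance

/-- Related points have the same image, and conversely. -/
theorem IsQ.apply_eq_iff {W : U.Opens} {Y : Scheme.{u}} {p : W.toScheme ⟶ Y} (hp : IsQ t s W p)
    (x y : W.toScheme) : p x = p y ↔ ∃ r : R, t r = W.ι x ∧ s r = W.ι y := by
  constructor
  · intro h
    obtain ⟨z, hz1, hz2⟩ := Scheme.Pullback.exists_preimage_pullback (f := p) (g := p) x y h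
    obtain ⟨r, h1, h2⟩ := (hp.eq_iff (pullback.fst p p) (pullback.snd p p)).1 pullback.condition
    refine ⟨r z, ?_, ?_⟩
    · rw [← Scheme.Hom.comp_apply, h1, Scheme.Hom.comp_apply, hz1]
    · rw [← Scheme.Hom.comp_apply, h2, Scheme.Hom.comp_apply, hz2]
  · rintro ⟨r, h1, h2⟩
    let O : R.Opens := t ⁻¹ᵁ W ⊓ s ⁻¹ᵁ W
    have hrO : r ∈ O := ⟨show t r ∈ W from h1 ▸ x.2, show s r ∈ W from h2 ▸ y.2⟩
    let a : O.toScheme ⟶ W.toScheme := t.resLE W O inf_le_left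
    let b : O.toScheme ⟶ W.toScheme := s.resLE W O inf_le_right
    have ha : O.ι ≫ t = a ≫ W.ι := (Scheme.Hom.resLE_comp_ι _ _).symm
    have hb : O.ι ≫ s = b ≫ W.ι := (Scheme.Hom.resLE_comp_ι _ _).symm
    have e := (hp.eq_iff a b).2 ⟨O.ι, ha, hb⟩
    have hax : a ⟨r, hrO⟩ = x := W.ι.isOpenEmbedding.injective (by
      rw [← Scheme.Hom.comp_apply, ← ha]; exact h1)
    have hby : b ⟨r, hrO⟩ = y := W.ι.isOpenEmbedding.injective (by
      rw [← Scheme.Hom.comp_apply, ← hb]; exact h2)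
    rw [← hax, ← hby, ← Scheme.Hom.comp_apply, ← Scheme.Hom.comp_apply, e]

/-- The image of a saturated open. -/
def img {W : U.Opens} {Y : Scheme.{u}} {p : W.toScheme ⟶ Y} (hp : IsQ t s W p) (W' : U.Opens) : Y.Opens :=
  ⟨p '' (W.ι ⁻¹ᵁ W' : Set W.toScheme), isOpenMap_of_isQ hp _ (W.ι ⁻¹ᵁ W').isOpen⟩

theorem mem_img_iff {W : U.Opens} {Y : Scheme.{u}} {p : W.toScheme ⟶ Y} (hp : IsQ t s W p) {W' : U.Opens}
    (hW' : Sat t s W') (x : W.toScheme) : p x ∈ img hp W' ↔ W.ι x ∈ W' := by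
  refine ⟨?_, fun h => ⟨x, h, rfl⟩⟩
  rintro ⟨z, hz, hzx⟩
  obtain ⟨r, h1, h2⟩ := (hp.apply_eq_iff z x).1 hzx
  exact h2 ▸ (hW'.mem_iff r).1 (h1 ▸ hz)

/-- A quotient restricts to saturated smaller opens. -/
theorem IsQ.exists_restrict {W : U.Opens} {Y : Scheme.{u}} {p : W.toScheme ⟶ Y} (hp : IsQ t s W p)
    {W' : U.Opens} (hW' : Sat t s W') (hle : W' ≤ W) :
    ∃ q : W'.toScheme ⟶ (img hp W').toScheme,
      q ≫ (img hp W').ι = U.homOfLE hle ≫ p ∧ IsQ t s W' q := by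
  let V := img hp W'
  have hmem : ∀ x : W'.toScheme, (U.homOfLE hle ≫ p) x ∈ V := fun x => by
    rw [Scheme.Hom.comp_apply, mem_img_iff hp hW', ← Scheme.Hom.comp_apply, Scheme.homOfLE_ι]
    exact x.2
  let q : W'.toScheme ⟶ V.toScheme := IsOpenImmersion.lift V.ι (U.homOfLE hle ≫ p) (by
    rintro _ ⟨x, rfl⟩
    rw [Scheme.Opens.range_ι]
    exact hmem x)
  have hq : q ≫ V.ι = U.homOfLE hle ≫ p := IsOpenImmersion.lift_fac _ _ _
  have sq : IsPullback (U.homOfLE hle) q p V.ι :=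
    (IsOpenImmersion.isPullback q (U.homOfLE hle) V.ι p hq.symm (by
      rw [Scheme.Opens.opensRange_ι]
      ext x
      constructor
      · intro hx
        refine ⟨⟨W.ι x, (mem_img_iff hp hW' x).1 hx⟩, W.ι.isOpenEmbedding.injective ?_⟩
        rw [← Scheme.Hom.comp_apply, Scheme.homOfLE_ι]
        rfl
      · rintro ⟨z, rfl⟩
        show p (U.homOfLE hle z) ∈ V
        rw [← Scheme.Hom.comp_apply]
        exact hmem z)).flip
  refine ⟨q, hq, MorphismProperty.of_isPullback (P := @Surjective) sq hp.surj,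
    MorphismProperty.of_isPullback (P := @Flat) sq hp.flat,
    MorphismProperty.of_isPullback (P := @LocallyOfFinitePresentation) sq hp.lfp, fun T a b => ?_⟩
  have e := hp.eq_iff (a ≫ U.homOfLE hle) (b ≫ U.homOfLE hle)
  simp only [Category.assoc, Scheme.homOfLE_ι] at e
  rw [← cancel_mono V.ι, Category.assoc, Category.assoc, hq]
  exact e

/-- Morphisms constant on classes descend to the quotient. -/
theorem IsQ.exists_desc {W : U.Opens} {Y : Scheme.{u}} {p : W.toScheme ⟶ Y} (hp : IsQ t s W p)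
    {Z : Scheme.{u}} (g : W.toScheme ⟶ Z)
    (hg : ∀ (T : Scheme.{u}) (a b : T ⟶ W.toScheme) (r : T ⟶ R),
      r ≫ t = a ≫ W.ι → r ≫ s = b ≫ W.ι → a ≫ g = b ≫ g) :
    ∃ h : Y ⟶ Z, p ≫ h = g := by
  haveI := effectiveEpi_of_isQ hp
  exact ⟨EffectiveEpi.desc p g fun a b e => by
    obtain ⟨r, h1, h2⟩ := (hp.eq_iff a b).1 e
    exact hg _ a b r h1 h2, EffectiveEpi.fac _ _ _⟩

theorem IsQ.hom_ext {W : U.Opens} {Y : Scheme.{u}} {p : W.toScheme ⟶ Y} (hp : IsQ t s W p)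
    {Z : Scheme.{u}} {h₁ h₂ : Y ⟶ Z} (h : p ≫ h₁ = p ≫ h₂) : h₁ = h₂ := by
  haveI := effectiveEpi_of_isQ hp
  exact (cancel_epi p).1 h

theorem IsQ.compat {W : U.Opens} {Y : Scheme.{u}} {p : W.toScheme ⟶ Y} (hp : IsQ t s W p)
    {T : Scheme.{u}} (a b : T ⟶ W.toScheme) (r : T ⟶ R) (h1 : r ≫ t = a ≫ W.ι) (h2 : r ≫ s = b ≫ W.ι) :
    a ≫ p = b ≫ p :=
  (hp.eq_iff a b).2 ⟨r, h1, h2⟩

/-- Two quotients of the same open agree. -/
theorem IsQ.exists_iso {W : U.Opens} {Y Y' : Scheme.{u}} {p : W.toScheme ⟶ Y} {p' : W.toScheme ⟶ Y'}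
    (hp : IsQ t s W p) (hp' : IsQ t s W p') : ∃ e : Y ≅ Y', p ≫ e.hom = p' := by
  obtain ⟨f, hf⟩ := hp.exists_desc p' fun _ a b r h1 h2 => hp'.compat a b r h1 h2
  obtain ⟨g, hg⟩ := hp'.exists_desc p fun _ a b r h1 h2 => hp.compat a b r h1 h2
  exact ⟨⟨f, g, hp.hom_ext (by rw [reassoc_of% hf, hg, Category.comp_id]),
    hp'.hom_ext (by rw [reassoc_of% hg, hf, Category.comp_id])⟩, hf⟩

/-- Transport along isomorphisms. -/
theorem IsQ.comap {U' R' : Scheme.{u}} {t' s' : R' ⟶ U'} {W : U.Opens} {Y : Scheme.{u}}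
    {p : W.toScheme ⟶ Y} (hp : IsQ t s W p) (ρ : U' ⟶ U) [IsIso ρ] (ψ : R' ⟶ R) [IsIso ψ]
    (ht : t' ≫ ρ = ψ ≫ t) (hs : s' ≫ ρ = ψ ≫ s) : IsQ t' s' (ρ ⁻¹ᵁ W) ((ρ ∣_ W) ≫ p) := by
  haveI := hp.surj
  haveI := hp.flat
  haveI := hp.lfp
  refine ⟨inferInstance, inferInstance, inferInstance, fun T a b => ?_⟩
  rw [← Category.assoc, ← Category.assoc, hp.eq_iff]
  simp only [Category.assoc, morphismRestrict_ι]
  constructor
  · rintro ⟨r, h1, h2⟩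
    refine ⟨r ≫ CategoryTheory.inv ψ, ?_, ?_⟩
    · rw [← cancel_mono ρ, Category.assoc, Category.assoc, ht, IsIso.inv_hom_id_assoc, h1, Category.assoc]
    · rw [← cancel_mono ρ, Category.assoc, Category.assoc, hs, IsIso.inv_hom_id_assoc, h2, Category.assoc]
  · rintro ⟨r, h1, h2⟩
    refine ⟨r ≫ ψ, ?_, ?_⟩
    · rw [Category.assoc, ← ht, reassoc_of% h1]
    · rw [Category.assoc, ← hs, reassoc_of% h2]

theorem Sat.comap {U' R' : Scheme.{u}} {t' s' : R' ⟶ U'} {W : U.Opens} (h : Sat t s W) (ρ : U' ⟶ U)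
    (ψ : R' ⟶ R) (ht : t' ≫ ρ = ψ ≫ t) (hs : s' ≫ ρ = ψ ≫ s) : Sat t' s' (ρ ⁻¹ᵁ W) := by
  show t' ⁻¹ᵁ ρ ⁻¹ᵁ W = s' ⁻¹ᵁ ρ ⁻¹ᵁ W
  rw [← Scheme.Hom.comp_preimage, ← Scheme.Hom.comp_preimage, ht, hs, Scheme.Hom.comp_preimage,
    Scheme.Hom.comp_preimage, h]

/-- A quotient of everything is a global fppf quotient. -/
theorem IsQ.exists_global {Y : Scheme.{u}} {p : (⊤ : U.Opens).toScheme ⟶ Y} (hp : IsQ t s ⊤ p)
    (hmono : ∀ ⦃T : Scheme.{u}⦄ (r r' : T ⟶ R), r ≫ t = r' ≫ t → r ≫ s = r' ≫ s → r = r') :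
    ∃ q : U ⟶ Y, Surjective q ∧ Flat q ∧ LocallyOfFinitePresentation q ∧ IsPullback t s q q := by
  haveI := hp.surj
  haveI := hp.flat
  haveI := hp.lfp
  let e := U.topIso
  have key : ∀ {T : Scheme.{u}} (a b : T ⟶ U), (a ≫ e.inv ≫ p = b ≫ e.inv ≫ p) ↔
      ∃ r : T ⟶ R, r ≫ t = a ∧ r ≫ s = b := fun a b => by
    have h := hp.eq_iff (a ≫ e.inv) (b ≫ e.inv)
    simp only [Category.assoc] at h
    rw [h]
    simp [e]
  refine ⟨e.inv ≫ p, inferInstance, inferInstance, inferInstance,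
    IsPullback.mk' ?_ (fun T r r' h1 h2 => hmono r r' h1 h2) (fun T a b h => (key a b).1 h)⟩
  exact (key t s).2 ⟨𝟙 _, Category.id_comp _, Category.id_comp _⟩

end Groth.L08.GQuot
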