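import Groth.Agent.L08.GQuot.Basic
import Mathlib.RingTheory.IsTensorProduct
import Mathlib.RingTheory.Flat.Basic
import Mathlib.Algebra.MvPolynomial.CommRing
import Mathlib.AlgebraicGeometry.AffineScheme

/-!
# Global sections of quotients
-/

set_option autoImplicit false
set_option backward.isDefEq.respectTransparency.types false

universe u

open CategoryTheory CategoryTheory.Limits AlgebraicGeometry TopologicalSpace TensorProduct

noncomputable section

namespace Groth.L08.GQuot

/-- Pullback of functions along an epimorphism of schemes is injective. -/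
theorem appTop_injective_of_epi {X Y : Scheme.{u}} (p : X ⟶ Y) [Epi p] : Function.Injective p.appTop.hom := by
  intro x y h
  let P := MvPolynomial PUnit.{u+1} (ULift.{u} ℤ)
  let φ : Γ(Y, ⊤) → (CommRingCat.of P ⟶ Γ(Y, ⊤)) := fun z => CommRingCat.ofHom
    (MvPolynomial.eval₂Hom ((Int.castRingHom _).comp (ULift.ringEquiv : ULift.{u} ℤ ≃+* ℤ).toRingHom) fun _ => z)
  have key : ∀ z, φ z ≫ p.appTop = CommRingCat.ofHom
      (MvPolynomial.eval₂Hom ((Int.castRingHom _).comp (ULift.ringEquiv : ULift.{u} ℤ ≃+* ℤ).toRingHom)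
        fun _ => p.appTop.hom z) := fun z => by
    ext : 1
    refine MvPolynomial.ringHom_ext (fun n => ?_) fun _ => ?_
    · simp [φ]
    · simp [φ]
  have e : Y.toSpecΓ ≫ Spec.map (φ x) = Y.toSpecΓ ≫ Spec.map (φ y) := by
    rw [← cancel_epi p, ← Category.assoc, ← Category.assoc, Scheme.toSpecΓ_naturality, Category.assoc,
      Category.assoc, ← Spec.map_comp, ← Spec.map_comp, key, key, h]
  have e' := congrArg (fun f => (Scheme.ΓSpecIso (CommRingCat.of P)).inv ≫ f.appTop) e
  simp only [Scheme.Hom.comp_appTop, Scheme.toSpecΓ_appTop, Scheme.ΓSpecIso_naturality,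
    Iso.inv_hom_id_assoc] at e'
  have := congr(($e').hom (MvPolynomial.X PUnit.unit))
  exact ((MvPolynomial.eval₂Hom_X' _ _ _).symm.trans this).trans (MvPolynomial.eval₂Hom_X' _ _ _)

/-- Invariants commute with a flat change of the base ring. -/
theorem invariants_baseChange {A₀ A₁ A C A' C' : Type u} [CommRing A₀] [CommRing A₁] [CommRing A] [CommRing C]
    [CommRing A'] [CommRing C'] [Algebra A₀ A₁] [Algebra A₀ A] [Algebra A₀ C] [Module.Flat A₀ A₁]
    (f g : A →ₐ[A₀] C) (f' g' : A' →+* C') (eA : A ⊗[A₀] A₁ ≃+* A') (eC : C ⊗[A₀] A₁ ≃+* C')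
    (hf : ∀ a b, f' (eA (a ⊗ₜ b)) = eC (f a ⊗ₜ b)) (hg : ∀ a b, g' (eA (a ⊗ₜ b)) = eC (g a ⊗ₜ b)) :
    Function.Injective (fun z => eA (Algebra.TensorProduct.map (AlgHom.equalizer f g).val (AlgHom.id A₀ A₁) z)) ∧
      ∀ z, f' z = g' z ↔
        ∃ y, eA (Algebra.TensorProduct.map (AlgHom.equalizer f g).val (AlgHom.id A₀ A₁) y) = z := by
  let B := AlgHom.equalizer f g
  let ι : B →ₗ[A₀] A := B.val.toLinearMap
  let d : A →ₗ[A₀] C := f.toLinearMap - g.toLinearMap
  have hex : Function.Exact ι d := by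
    intro a
    constructor
    · intro ha
      exact ⟨⟨a, sub_eq_zero.1 ha⟩, rfl⟩
    · rintro ⟨b, rfl⟩
      exact sub_eq_zero.2 b.2
  have hmap : ∀ y, Algebra.TensorProduct.map B.val (AlgHom.id A₀ A₁) y = ι.rTensor A₁ y := fun y => rfl
  have hd : ∀ w : A ⊗[A₀] A₁, eC (d.rTensor A₁ w) = f' (eA w) - g' (eA w) := by
    intro w
    induction w using TensorProduct.induction_on with
    | zero => simp
    | tmul a b => rw [hf, hg, LinearMap.rTensor_tmul, ← map_sub, ← sub_tmul]; rfl
    | add x y hx hy => rw [map_add, map_add, hx, hy, map_add, map_add, map_add]; abel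
  have hexT := Module.Flat.rTensor_exact A₁ hex
  refine ⟨fun x y h => ?_, fun z => ?_⟩
  · have h' := eA.injective h
    rw [hmap, hmap] at h'
    exact Module.Flat.rTensor_preserves_injective_linearMap ι Subtype.val_injective h'
  · obtain ⟨w, rfl⟩ := eA.surjective z
    rw [← sub_eq_zero, ← hd, map_eq_zero_iff _ eC.injective, hexT w]
    exact exists_congr fun y => by rw [eA.injective.eq_iff, hmap]

end Groth.L08.GQuot
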