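import Groth.Agent.L08.GQuot.Basic
import Groth.Agent.L24.Alg.SourceFppf
import Groth.Agent.L25.Translate
import Groth.Prelude.Def_Grpd

/-!
# Restriction and induction of quotients of equivalence relations
-/

set_option autoImplicit false
set_option backward.isDefEq.respectTransparency.types false
set_option linter.style.haveILetI false

universe u

open CategoryTheory CategoryTheory.Limits AlgebraicGeometry TopologicalSpace

noncomputable section

namespace Groth.L08.GQuot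

/-- A scheme theoretic equivalence relation. -/
structure EqRel {U R : Scheme.{u}} (t s : R ⟶ U) : Prop where
  refl : ∃ e : U ⟶ R, e ≫ t = 𝟙 U ∧ e ≫ s = 𝟙 U
  symm : ∀ ⦃T : Scheme.{u}⦄ (r : T ⟶ R), ∃ r' : T ⟶ R, r' ≫ t = r ≫ s ∧ r' ≫ s = r ≫ t
  trans : ∀ ⦃T : Scheme.{u}⦄ (a b : T ⟶ R), a ≫ s = b ≫ t → ∃ r : T ⟶ R, r ≫ t = a ≫ t ∧ r ≫ s = b ≫ s
  mono : ∀ ⦃T : Scheme.{u}⦄ (r r' : T ⟶ R), r ≫ t = r' ≫ t → r ≫ s = r' ≫ s → r = r'

variable {U R : Scheme.{u}} {t s : R ⟶ U}

theorem EqRel.symm_pt (h : EqRel t s) (r : R) : ∃ r', t r' = s r ∧ s r' = t r := by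
  obtain ⟨i, h1, h2⟩ := h.symm (𝟙 R)
  rw [Category.id_comp] at h1 h2
  exact ⟨i r, congr(($h1) r), congr(($h2) r)⟩

theorem EqRel.trans_pt (h : EqRel t s) (r₁ r₂ : R) (e : s r₁ = t r₂) :
    ∃ r, t r = t r₁ ∧ s r = s r₂ := by
  obtain ⟨z, hz1, hz2⟩ := Scheme.Pullback.exists_preimage_pullback (f := s) (g := t) r₁ r₂ e
  obtain ⟨c, c1, c2⟩ := h.trans (pullback.fst s t) (pullback.snd s t) pullback.condition
  exact ⟨c z, (congr(($c1) z)).trans (congrArg t hz1), (congr(($c2) z)).trans (congrArg s hz2)⟩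

/-- The arrows with both ends in an open. -/
abbrev bothEnds (t s : R ⟶ U) (V : U.Opens) : R.Opens := t ⁻¹ᵁ V ⊓ s ⁻¹ᵁ V

/-- target of the restricted relation. -/
abbrev tRes (t s : R ⟶ U) (V : U.Opens) : (bothEnds t s V).toScheme ⟶ V.toScheme :=
  t.resLE V (bothEnds t s V) inf_le_left

/-- source of the restricted relation. -/
abbrev sRes (t s : R ⟶ U) (V : U.Opens) : (bothEnds t s V).toScheme ⟶ V.toScheme :=
  s.resLE V (bothEnds t s V) inf_le_right

theorem exists_lift_bothEnds {V : U.Opens} {T : Scheme.{u}} (r : T ⟶ R) (a b : T ⟶ V.toScheme)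
    (ha : r ≫ t = a ≫ V.ι) (hb : r ≫ s = b ≫ V.ι) :
    ∃ r' : T ⟶ (bothEnds t s V).toScheme, r' ≫ (bothEnds t s V).ι = r ∧ r' ≫ tRes t s V = a ∧
      r' ≫ sRes t s V = b := by
  let r' : T ⟶ (bothEnds t s V).toScheme := IsOpenImmersion.lift (bothEnds t s V).ι r (by
    rintro _ ⟨x, rfl⟩
    rw [Scheme.Opens.range_ι]
    exact ⟨show t (r x) ∈ V by rw [← Scheme.Hom.comp_apply, ha]; exact (a x).2,
      show s (r x) ∈ V by rw [← Scheme.Hom.comp_apply, hb]; exact (b x).2⟩)
  have l : r' ≫ (bothEnds t s V).ι = r := IsOpenImmersion.lift_fac _ _ _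
  refine ⟨r', l, ?_, ?_⟩
  · rw [← cancel_mono V.ι, Category.assoc, Scheme.Hom.resLE_comp_ι, reassoc_of% l, ha]
  · rw [← cancel_mono V.ι, Category.assoc, Scheme.Hom.resLE_comp_ι, reassoc_of% l, hb]

theorem EqRel.restrict (h : EqRel t s) (V : U.Opens) : EqRel (tRes t s V) (sRes t s V) where
  refl := by
    obtain ⟨e, h1, h2⟩ := h.refl
    obtain ⟨e', -, e1, e2⟩ := exists_lift_bothEnds (t := t) (s := s) (V := V) (V.ι ≫ e) (𝟙 _) (𝟙 _)
      (by rw [Category.assoc, h1, Category.id_comp, Category.comp_id])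
      (by rw [Category.assoc, h2, Category.id_comp, Category.comp_id])
    exact ⟨e', e1, e2⟩
  symm T r := by
    obtain ⟨r', h1, h2⟩ := h.symm (r ≫ (bothEnds t s V).ι)
    obtain ⟨r'', -, e1, e2⟩ := exists_lift_bothEnds (t := t) (s := s) (V := V) r' (r ≫ sRes t s V) (r ≫ tRes t s V)
      (by rw [h1, Category.assoc, Category.assoc, Scheme.Hom.resLE_comp_ι])
      (by rw [h2, Category.assoc, Category.assoc, Scheme.Hom.resLE_comp_ι])
    exact ⟨r'', e1, e2⟩
  trans T a b e := by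
    obtain ⟨r, h1, h2⟩ := h.trans (a ≫ (bothEnds t s V).ι) (b ≫ (bothEnds t s V).ι) (by
      have := e =≫ V.ι
      simpa only [Category.assoc, Scheme.Hom.resLE_comp_ι] using this)
    obtain ⟨r', -, e1, e2⟩ := exists_lift_bothEnds (t := t) (s := s) (V := V) r (a ≫ tRes t s V) (b ≫ sRes t s V)
      (by rw [h1, Category.assoc, Category.assoc, Scheme.Hom.resLE_comp_ι])
      (by rw [h2, Category.assoc, Category.assoc, Scheme.Hom.resLE_comp_ι])
    exact ⟨r', e1, e2⟩
  mono T r r' e1 e2 := by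
    rw [← cancel_mono (bothEnds t s V).ι]
    refine h.mono _ _ ?_ ?_
    · have := e1 =≫ V.ι
      simpa only [Category.assoc, Scheme.Hom.resLE_comp_ι] using this
    · have := e2 =≫ V.ι
      simpa only [Category.assoc, Scheme.Hom.resLE_comp_ι] using this

/-- An equivalence relation as a groupoid scheme. -/
def EqRel.grpd (h : EqRel t s) {S : Scheme.{u}} (π : U ⟶ S) (hπ : t ≫ π = s ≫ π) : Grpd.GroupoidScheme S where
  U := U
  R := R
  pU := π
  pR := s ≫ π
  s := s
  t := t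
  e := h.refl.choose
  i := (h.symm (𝟙 R)).choose
  c := (h.trans (pullback.fst s t) (pullback.snd s t) pullback.condition).choose
  s_over := rfl
  t_over := hπ
  comp_s {T} α β e := by
    rw [Category.assoc, (h.trans (pullback.fst s t) (pullback.snd s t) pullback.condition).choose_spec.2,
      pullback.lift_snd_assoc]
  comp_t {T} α β e := by
    rw [Category.assoc, (h.trans (pullback.fst s t) (pullback.snd s t) pullback.condition).choose_spec.1,
      pullback.lift_fst_assoc]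
  e_s := h.refl.choose_spec.2
  e_t := h.refl.choose_spec.1
  i_s := (h.symm (𝟙 R)).choose_spec.2.trans (Category.id_comp _)
  i_t := (h.symm (𝟙 R)).choose_spec.1.trans (Category.id_comp _)
  assoc {T} α β γ h₁ h₂ := by
    obtain ⟨hct, hcs⟩ := (h.trans (pullback.fst s t) (pullback.snd s t) pullback.condition).choose_spec
    refine h.mono _ _ ?_ ?_ <;>
      simp only [Category.assoc, hct, hcs, pullback.lift_fst_assoc, pullback.lift_snd_assoc]
  comp_e {T} α := by
    obtain ⟨hct, hcs⟩ := (h.trans (pullback.fst s t) (pullback.snd s t) pullback.condition).choose_spec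
    refine h.mono _ _ ?_ ?_ <;>
      simp only [Category.assoc, hct, hcs, pullback.lift_fst_assoc, pullback.lift_snd_assoc,
        h.refl.choose_spec.2, Category.comp_id]
  e_comp {T} α := by
    obtain ⟨hct, hcs⟩ := (h.trans (pullback.fst s t) (pullback.snd s t) pullback.condition).choose_spec
    refine h.mono _ _ ?_ ?_ <;>
      simp only [Category.assoc, hct, hcs, pullback.lift_fst_assoc, pullback.lift_snd_assoc,
        h.refl.choose_spec.1, Category.comp_id]
  comp_i {T} α := by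
    obtain ⟨hct, hcs⟩ := (h.trans (pullback.fst s t) (pullback.snd s t) pullback.condition).choose_spec
    refine h.mono _ _ ?_ ?_ <;>
      simp only [Category.assoc, hct, hcs, pullback.lift_fst_assoc, pullback.lift_snd_assoc,
        h.refl.choose_spec.1, h.refl.choose_spec.2, Category.comp_id,
        (h.symm (𝟙 R)).choose_spec.2.trans (Category.id_comp t)]
  i_comp {T} α := by
    obtain ⟨hct, hcs⟩ := (h.trans (pullback.fst s t) (pullback.snd s t) pullback.condition).choose_spec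
    refine h.mono _ _ ?_ ?_ <;>
      simp only [Category.assoc, hct, hcs, pullback.lift_fst_assoc, pullback.lift_snd_assoc,
        h.refl.choose_spec.1, h.refl.choose_spec.2, Category.comp_id,
        (h.symm (𝟙 R)).choose_spec.1.trans (Category.id_comp s)]

/-- A kernel pair over a saturated open gives a quotient. -/
theorem isQ_of_kernelPair {W : U.Opens} (hW : Sat t s W) {Y : Scheme.{u}} (p : W.toScheme ⟶ Y)
    [Surjective p] [Flat p] [LocallyOfFinitePresentation p]
    (sq : IsPullback (t.resLE W (s ⁻¹ᵁ W) hW.ge) (s ∣_ W) p p) : IsQ t s W p := by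
  refine ⟨inferInstance, inferInstance, inferInstance, fun T a b => ⟨fun e => ?_, ?_⟩⟩
  · obtain ⟨r, r1, r2⟩ := sq.exists_lift a b e
    exact ⟨r ≫ (s ⁻¹ᵁ W).ι, by rw [← r1, Category.assoc, Category.assoc, Scheme.Hom.resLE_comp_ι],
      by rw [← r2, Category.assoc, Category.assoc, morphismRestrict_ι]⟩
  · rintro ⟨r, e1, e2⟩
    let r' : T ⟶ (s ⁻¹ᵁ W).toScheme := IsOpenImmersion.lift (s ⁻¹ᵁ W).ι r (by
      rintro _ ⟨x, rfl⟩
      rw [Scheme.Opens.range_ι]
      show s (r x) ∈ W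
      rw [← Scheme.Hom.comp_apply, e2]
      exact (b x).2)
    have l : r' ≫ (s ⁻¹ᵁ W).ι = r := IsOpenImmersion.lift_fac _ _ _
    have l1 : r' ≫ t.resLE W (s ⁻¹ᵁ W) hW.ge = a := by
      rw [← cancel_mono W.ι, Category.assoc, Scheme.Hom.resLE_comp_ι, reassoc_of% l, e1]
    have l2 : r' ≫ (s ∣_ W) = b := by
      rw [← cancel_mono W.ι, Category.assoc, morphismRestrict_ι, reassoc_of% l, e2]
    rw [← l1, ← l2, Category.assoc, Category.assoc, sq.w]

/-- A quotient of an open for the restricted relation is one for the whole relation. -/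
theorem isQ_of_restrict {V : U.Opens} {W : V.toScheme.Opens} {Y : Scheme.{u}} {p : W.toScheme ⟶ Y}
    (hp : IsQ (tRes t s V) (sRes t s V) W p) : IsQ t s (V.ι ''ᵁ W) ((V.ι.isoImage W).inv ≫ p) := by
  haveI := hp.surj
  haveI := hp.flat
  haveI := hp.lfp
  let e := V.ι.isoImage W
  have he : e.inv ≫ W.ι ≫ V.ι = (V.ι ''ᵁ W).ι := V.ι.isoImage_inv_ι W
  refine ⟨inferInstance, inferInstance, inferInstance, fun T a b => ?_⟩
  rw [← Category.assoc, ← Category.assoc, hp.eq_iff]
  constructor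
  · rintro ⟨r, h1, h2⟩
    refine ⟨r ≫ (bothEnds t s V).ι, ?_, ?_⟩
    · rw [Category.assoc, ← Scheme.Hom.resLE_comp_ι t (U := V) inf_le_left, reassoc_of% h1, he]
    · rw [Category.assoc, ← Scheme.Hom.resLE_comp_ι s (U := V) inf_le_right, reassoc_of% h2, he]
  · rintro ⟨r, h1, h2⟩
    obtain ⟨r', -, e1, e2⟩ := exists_lift_bothEnds (t := t) (s := s) (V := V) r ((a ≫ e.inv) ≫ W.ι)
      ((b ≫ e.inv) ≫ W.ι)
      (by rw [h1, Category.assoc, Category.assoc, he]) (by rw [h2, Category.assoc, Category.assoc, he])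
    exact ⟨r', e1, e2⟩

/-- A quotient restricts to all smaller opens. -/
theorem IsQ.exists_restrictAny {W : U.Opens} {Y : Scheme.{u}} {p : W.toScheme ⟶ Y} (hp : IsQ t s W p)
    {W' : U.Opens} (hle : W' ≤ W) :
    ∃ q : W'.toScheme ⟶ (img hp W').toScheme,
      q ≫ (img hp W').ι = U.homOfLE hle ≫ p ∧ IsQ t s W' q := by
  haveI := hp.flat
  haveI := hp.lfp
  let V := img hp W'
  have hmem : ∀ x : W'.toScheme, (U.homOfLE hle ≫ p) x ∈ V := fun x =>
    ⟨U.homOfLE hle x, show W.ι (U.homOfLE hle x) ∈ W' by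
      rw [← Scheme.Hom.comp_apply, Scheme.homOfLE_ι]; exact x.2, rfl⟩
  let q : W'.toScheme ⟶ V.toScheme := IsOpenImmersion.lift V.ι (U.homOfLE hle ≫ p) (by
    rintro _ ⟨x, rfl⟩
    rw [Scheme.Opens.range_ι]
    exact hmem x)
  have hq : q ≫ V.ι = U.homOfLE hle ≫ p := IsOpenImmersion.lift_fac _ _ _
  have sq : IsPullback (𝟙 _) q (U.homOfLE hle ≫ p) V.ι :=
    IsPullback.mk' (by rw [Category.id_comp, hq]) (fun T a b e _ => by simpa using e)
      fun T a b e => ⟨a, Category.comp_id a, by rw [← cancel_mono V.ι, Category.assoc, hq, e]⟩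
  refine ⟨q, hq, ⟨?_⟩, MorphismProperty.of_isPullback (P := @Flat) sq inferInstance,
    MorphismProperty.of_isPullback (P := @LocallyOfFinitePresentation) sq inferInstance, fun T a b => ?_⟩
  · rintro ⟨c, z, hz, hzc⟩
    refine ⟨⟨W.ι z, hz⟩, V.ι.isOpenEmbedding.injective ?_⟩
    rw [← Scheme.Hom.comp_apply, hq, Scheme.Hom.comp_apply]
    refine Eq.trans (congrArg p (W.ι.isOpenEmbedding.injective ?_)) hzc
    rw [← Scheme.Hom.comp_apply, Scheme.homOfLE_ι]
    rfl
  · have e := hp.eq_iff (a ≫ U.homOfLE hle) (b ≫ U.homOfLE hle)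
    simp only [Category.assoc, Scheme.homOfLE_ι] at e
    rw [← cancel_mono V.ι, Category.assoc, Category.assoc, hq]
    exact e

/-- A quotient of an open induces one of its saturation. -/
theorem IsQ.exists_induce (hE : EqRel t s) [Flat t] [LocallyOfFinitePresentation t] [Flat s]
    [LocallyOfFinitePresentation s] {W : U.Opens} {Y : Scheme.{u}} {p : W.toScheme ⟶ Y} (hp : IsQ t s W p) :
    ∃ (W' : U.Opens) (p' : W'.toScheme ⟶ Y), W ≤ W' ∧ Sat t s W' ∧ IsQ t s W' p' := by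
  haveI := hp.surj
  haveI := hp.flat
  haveI := hp.lfp
  obtain ⟨e, he1, he2⟩ := hE.refl
  let O : R.Opens := s ⁻¹ᵁ W
  let W' : U.Opens := ⟨t '' (O : Set R), t.isOpenMap _ O.isOpen⟩
  have hle : W ≤ W' := fun y hy => ⟨e y, show s (e y) ∈ W by
    rw [← Scheme.Hom.comp_apply, he2]; exact hy, by rw [← Scheme.Hom.comp_apply, he1]; rfl⟩
  have hW' : Sat t s W' := by
    refine TopologicalSpace.Opens.ext (Set.ext fun r => ⟨?_, ?_⟩)
    · rintro ⟨r₁, h1, h2⟩
      obtain ⟨r', e1, e2⟩ := hE.symm_pt r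
      obtain ⟨r₂, e3, e4⟩ := hE.trans_pt r' r₁ (e2.trans h2.symm)
      exact ⟨r₂, show s r₂ ∈ W from e4 ▸ h1, e3.trans e1⟩
    · rintro ⟨r₁, h1, h2⟩
      obtain ⟨r₂, e3, e4⟩ := hE.trans_pt r r₁ h2.symm
      exact ⟨r₂, show s r₂ ∈ W from e4 ▸ h1, e3⟩
  let τ : O.toScheme ⟶ W'.toScheme := t.resLE W' O fun r hr => ⟨r, hr, rfl⟩
  let σ : O.toScheme ⟶ W.toScheme := s ∣_ W
  have hτ : τ ≫ W'.ι = O.ι ≫ t := Scheme.Hom.resLE_comp_ι _ _
  have hσ : σ ≫ W.ι = O.ι ≫ s := morphismRestrict_ι _ _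
  have sqτ : IsPullback (𝟙 _) τ (O.ι ≫ t) W'.ι :=
    IsPullback.mk' (by rw [Category.id_comp, hτ]) (fun T a b e _ => by simpa using e)
      fun T a b e => ⟨a, Category.comp_id a, by rw [← cancel_mono W'.ι, Category.assoc, hτ, e]⟩
  haveI : Flat τ := MorphismProperty.of_isPullback (P := @Flat) sqτ inferInstance
  haveI : LocallyOfFinitePresentation τ :=
    MorphismProperty.of_isPullback (P := @LocallyOfFinitePresentation) sqτ inferInstance
  haveI : Surjective τ := ⟨fun ⟨y, r, hr, hry⟩ => ⟨⟨r, hr⟩, W'.ι.isOpenEmbedding.injective (by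
    rw [← Scheme.Hom.comp_apply, hτ]; exact hry)⟩⟩
  haveI : Surjective σ := ⟨fun y => ⟨⟨e (W.ι y), show s (e (W.ι y)) ∈ W by
      rw [← Scheme.Hom.comp_apply e s, he2]; exact y.2⟩, W.ι.isOpenEmbedding.injective (by
      rw [← Scheme.Hom.comp_apply, hσ]
      show s (e (W.ι y)) = W.ι y
      rw [← Scheme.Hom.comp_apply e s, he2]; rfl)⟩⟩
  have key : ∀ ⦃T : Scheme.{u}⦄ (a b : T ⟶ O.toScheme),
      (∃ r : T ⟶ R, r ≫ t = a ≫ τ ≫ W'.ι ∧ r ≫ s = b ≫ τ ≫ W'.ι) ↔ a ≫ σ ≫ p = b ≫ σ ≫ p := by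
    intro T a b
    rw [← Category.assoc a σ p, ← Category.assoc b σ p, hp.eq_iff]
    constructor
    · rintro ⟨r, r1, r2⟩
      obtain ⟨a', a1, a2⟩ := hE.symm (a ≫ O.ι)
      obtain ⟨c, c1, c2⟩ := hE.trans a' r (by rw [a2, r1, Category.assoc, hτ])
      obtain ⟨c', d1, d2⟩ := hE.trans c (b ≫ O.ι) (by rw [c2, r2, Category.assoc, hτ])
      exact ⟨c', by rw [d1, c1, a1, Category.assoc, Category.assoc, hσ],
        by rw [d2, Category.assoc, Category.assoc, hσ]⟩
    · rintro ⟨r, r1, r2⟩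
      obtain ⟨b', b1, b2⟩ := hE.symm (b ≫ O.ι)
      obtain ⟨c, c1, c2⟩ := hE.trans (a ≫ O.ι) r (by rw [r1, Category.assoc, Category.assoc, hσ])
      obtain ⟨c', d1, d2⟩ := hE.trans c b' (by rw [c2, r2, b1, Category.assoc, Category.assoc, hσ])
      exact ⟨c', by rw [d1, c1, Category.assoc, hτ], by rw [d2, b2, Category.assoc, hτ]⟩
  haveI : EffectiveEpi τ := inferInstance
  obtain ⟨p', hp'⟩ : ∃ p' : W'.toScheme ⟶ Y, τ ≫ p' = σ ≫ p :=
    ⟨EffectiveEpi.desc τ (σ ≫ p) fun a b w => by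
      obtain ⟨r, r1, r2⟩ : ∃ r, r ≫ t = a ≫ τ ≫ W'.ι ∧ r ≫ s = b ≫ τ ≫ W'.ι :=
        ⟨a ≫ τ ≫ W'.ι ≫ e, by simp only [Category.assoc, he1, Category.comp_id],
          by simp only [Category.assoc, he2, Category.comp_id, reassoc_of% w]⟩
      exact (key a b).1 ⟨r, r1, r2⟩, EffectiveEpi.fac _ _ _⟩
  haveI : Surjective (τ ≫ p') := hp' ▸ inferInstance
  haveI : Flat (τ ≫ p') := hp' ▸ inferInstance
  have hl : LocallyOfFinitePresentation (τ ≫ p') := hp' ▸ inferInstance
  refine ⟨W', p', hle, hW', Surjective.of_comp τ p', Groth.L25.Translate.flat_of_comp τ p',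
    Groth.L24.Alg.locallyOfFinitePresentation_of_fppf_comp τ p' hl, fun T a b => ?_⟩
  let c := pullback.fst (pullback.fst a τ) (pullback.fst b τ) ≫ pullback.fst a τ
  let a' := pullback.fst (pullback.fst a τ) (pullback.fst b τ) ≫ pullback.snd a τ
  let b' := pullback.snd (pullback.fst a τ) (pullback.fst b τ) ≫ pullback.snd b τ
  have ha : a' ≫ τ = c ≫ a := by
    simp only [a', c, Category.assoc]
    rw [← pullback.condition (f := a) (g := τ)]
  have hb : b' ≫ τ = c ≫ b := by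
    simp only [b', c, Category.assoc]
    rw [← pullback.condition (f := b) (g := τ), ← Category.assoc, ← pullback.condition, Category.assoc]
  haveI : EffectiveEpi c := inferInstance
  constructor
  · intro hab
    obtain ⟨r, r1, r2⟩ := (key a' b').2 (by
      rw [← hp', reassoc_of% ha, reassoc_of% hb, hab])
    rw [reassoc_of% ha] at r1
    rw [reassoc_of% hb] at r2
    refine ⟨EffectiveEpi.desc c r fun g₁ g₂ w => hE.mono _ _ ?_ ?_, ?_, ?_⟩
    · rw [Category.assoc, Category.assoc, r1, reassoc_of% w]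
    · rw [Category.assoc, Category.assoc, r2, reassoc_of% w]
    · rw [← cancel_epi c, EffectiveEpi.fac_assoc, r1]
    · rw [← cancel_epi c, EffectiveEpi.fac_assoc, r2]
  · rintro ⟨r, r1, r2⟩
    have := (key a' b').1 ⟨c ≫ r, by rw [Category.assoc, r1, reassoc_of% ha], by rw [Category.assoc, r2, reassoc_of% hb]⟩
    rw [← hp', reassoc_of% ha, reassoc_of% hb, cancel_epi] at this
    exact this

end Groth.L08.GQuot
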